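import Cfsg.Agent.Lib.Char.MTwentyTwoOrder.Facts

/-!
# Simple groups of order 443520: centralizers of elements of order three and of involutions
-/

set_option autoImplicit false
set_option linter.all false

open Subgroup MulAction

namespace CfsgLib.Char.MTwentyTwoOrder

universe u

variable {G : Type u} [Group G] [Finite G]

theorem card_sylow_eq {H : Type u} [Group H] [Finite H] {p : ℕ} [hp : Fact p.Prime] (S : Sylow p H) {a m : ℕ}
    (h : Nat.card H = p ^ a * m) (hm : ¬ p ∣ m) : Nat.card (S : Subgroup H) = p ^ a := by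
  rw [S.card_eq_multiplicity, h, Nat.factorization_mul (pow_ne_zero _ hp.out.ne_zero)
    (fun e => hm (by rw [e]; exact dvd_zero p)), Finsupp.add_apply, hp.out.factorization_pow,
    Finsupp.single_eq_same, Nat.factorization_eq_zero_of_not_dvd hm, add_zero]

theorem mem_normalizer_of_map_mem {X : Subgroup G} {x : G} (h : ∀ y ∈ X, x * y * x⁻¹ ∈ X) :
    x ∈ normalizer (X : Set G) := by
  refine mem_normalizer_iff.2 fun y => ⟨h y, fun hy => ?_⟩
  have hinj : Function.Injective fun z : X => (⟨_, h z z.2⟩ : X) := fun a b hab => by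
    have := congrArg Subtype.val hab
    simpa using this
  obtain ⟨z, hz⟩ := (Finite.injective_iff_surjective.1 hinj) ⟨_, hy⟩
  have hz' : x * (z : G) * x⁻¹ = x * y * x⁻¹ := congrArg Subtype.val hz
  simp only [mul_left_inj, mul_right_inj] at hz'
  exact hz' ▸ z.2

theorem conj_mem_of_mem_normalizer {X : Subgroup G} {x y : G} (hx : x ∈ normalizer (X : Set G))
    (hy : y ∈ X) : x * y * x⁻¹ ∈ X := (mem_normalizer_iff.1 hx y).1 hy

/-- An element of prime order normalising a subgroup fixes as many points of it as it has, modulo that prime. -/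
theorem card_modEq_fixed {p : ℕ} [Fact p.Prime] (X : Subgroup G) {x : G} (hx : orderOf x = p)
    (hX : x ∈ normalizer (X : Set G)) :
    Nat.card X ≡ Nat.card ↥(X ⊓ centralizer ({x} : Set G)) [MOD p] := by
  have hle : zpowers x ≤ normalizer (X : Set G) := zpowers_le.2 hX
  letI act : MulAction ↥(zpowers x) ↥X := MulAction.compHom _ ((normalizerMonoidHom X).comp (inclusion hle))
  have hP : IsPGroup p ↥(zpowers x) := IsPGroup.of_card (n := 1) (by rw [Nat.card_zpowers, hx, pow_one])
  suffices h : Nat.card (MulAction.fixedPoints ↥(zpowers x) ↥X) = Nat.card ↥(X ⊓ centralizer ({x} : Set G)) by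
    rw [← h]; exact hP.card_modEq_card_fixedPoints ↥X
  refine Nat.card_congr
    { toFun := fun a => ⟨(a : X), (a : X).2, mem_centralizer_singleton_iff.2 ?_⟩
      invFun := fun b => ⟨⟨b, b.2.1⟩, fun z => Subtype.ext ?_⟩
      left_inv := fun a => rfl
      right_inv := fun b => rfl }
  · have h : x * ((a : X) : G) * x⁻¹ = ((a : X) : G) := congrArg Subtype.val (a.2 ⟨x, mem_zpowers x⟩)
    exact (mul_inv_eq_iff_eq_mul.1 h).symm
  · show (z : G) * (b : G) * (z : G)⁻¹ = b
    obtain ⟨n, hn⟩ := mem_zpowers_iff.1 z.2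
    have hc : Commute x (b : G) := (mem_centralizer_singleton_iff.1 b.2.2).symm
    rw [← hn, (hc.zpow_left n).eq, mul_inv_cancel_right]

/-- A group without fixed points on a set of elements has orbits of full length on it. -/
theorem card_dvd_of_free (A : Subgroup G) (D : Set G) (hinv : ∀ a ∈ A, ∀ d ∈ D, a * d * a⁻¹ ∈ D)
    (hfree : ∀ a ∈ A, a ≠ 1 → ∀ d ∈ D, a * d * a⁻¹ ≠ d) : Nat.card A ∣ D.ncard := by
  classical
  letI act : MulAction A D :=
    { smul := fun a d => ⟨_, hinv a a.2 d d.2⟩
      one_smul := fun d => Subtype.ext (show (1 : G) * d * (1 : G)⁻¹ = d by group)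
      mul_smul := fun a b d => Subtype.ext (show (a * b : G) * d * (a * b : G)⁻¹ =
        a * (b * d * (b : G)⁻¹) * (a : G)⁻¹ by group) }
  have hstab : ∀ d : D, stabilizer A d = ⊥ := fun d => (eq_bot_iff).2 fun a ha => by
    by_contra hne
    exact hfree a a.2 (fun h => hne (mem_bot.2 (Subtype.ext h))) d d.2 (congrArg Subtype.val ha)
  letI : Fintype (Quotient (orbitRel ↥A ↑D)) := Fintype.ofFinite _
  rw [← Nat.card_coe_set_eq, Nat.card_congr (selfEquivSigmaOrbitsQuotientStabilizer A D), Nat.card_sigma]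
  refine Finset.dvd_sum fun q _ => ?_
  rw [← Subgroup.index_eq_card, hstab, Subgroup.index_bot]

/-- A group of order 384 with more than one Sylow 2-subgroup. -/
theorem exists_core_384 {C : Type u} [Group C] [Finite C] (hC : Nat.card C = 384)
    (hnn : ∀ S : Subgroup C, Nat.card S = 128 → ¬ S.Normal) :
    ∃ Q : Subgroup C, Q.Normal ∧ Nat.card Q = 64 ∧
      ∀ x : C, orderOf x = 3 → ∀ X : Subgroup C, IsPGroup 2 X → x ∈ normalizer (X : Set C) → X ≤ Q := by
  haveI := Fact.mk Nat.prime_two
  let S : Sylow 2 C := default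
  have hScard : Nat.card (S : Subgroup C) = 128 :=
    card_sylow_eq (a := 7) (m := 3) S (by rw [hC]; norm_num) (by norm_num)
  have hsyl : ∀ T : Sylow 2 C, Nat.card (T : Subgroup C) = 128 := fun T => by
    rw [T.card_eq_multiplicity, ← S.card_eq_multiplicity, hScard]
  obtain ⟨T, hT⟩ : ∃ T : Sylow 2 C, T ≠ S := by
    by_contra h
    push Not at h
    haveI : Subsingleton (Sylow 2 C) := ⟨fun a b => (h a).trans (h b).symm⟩
    exact hnn S hScard (Sylow.normal_of_subsingleton S)
  set D := (S : Subgroup C) ⊓ T with hD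
  have h1 := Subgroup.card_mul_index (D.subgroupOf (S : Subgroup C))
  have h2 : D.relIndex (S : Subgroup C) ≤ (T : Subgroup C).index := by
    rw [hD, Subgroup.inf_relIndex_left, ← Subgroup.relIndex_top_right (T : Subgroup C)]
    exact Subgroup.relIndex_le_of_le_right le_top (by rw [Subgroup.relIndex_top_right]; exact Subgroup.index_ne_zero_of_finite)
  have hTi : (T : Subgroup C).index = 3 := by
    have h := (T : Subgroup C).card_mul_index
    rw [hsyl, hC] at h
    omega
  rw [hTi] at h2
  rw [Nat.card_congr (subgroupOfEquivOfLe (inf_le_left : D ≤ S)).toEquiv, hScard] at h1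
  have hrel : D.relIndex (S : Subgroup C) = 2 := by
    have hd : D.relIndex (S : Subgroup C) ∣ 128 := ⟨_, ((mul_comm _ _).trans h1).symm⟩
    have hne : D.relIndex (S : Subgroup C) ≠ 1 := fun e => hT (Sylow.ext (S.3 T.2
      ((Subgroup.relIndex_eq_one.1 e).trans inf_le_right)))
    interval_cases h : D.relIndex (S : Subgroup C) <;> simp_all <;> omega
  have hDcard : Nat.card D = 64 := by
    change Nat.card D * D.relIndex (S : Subgroup C) = 128 at h1
    rw [hrel] at h1
    omega
  have hnS : ∀ U : Sylow 2 C, D ≤ U → (U : Subgroup C) ≤ normalizer (D : Set C) := by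
    intro U hU
    refine (Subgroup.normal_subgroupOf_iff_le_normalizer hU).1 (Subgroup.normal_of_index_eq_two ?_)
    have h := Subgroup.card_mul_index (D.subgroupOf (U : Subgroup C))
    rw [Nat.card_congr (subgroupOfEquivOfLe hU).toEquiv, hsyl, hDcard] at h
    omega
  have hN : normalizer (D : Set C) = ⊤ := by
    have hSN := hnS S inf_le_left
    have hTN := hnS T inf_le_right
    have hdvd := Subgroup.card_dvd_of_le hSN
    have hdvd' := Subgroup.card_subgroup_dvd_card (normalizer (D : Set C))
    rw [hScard] at hdvd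
    rw [hC] at hdvd'
    obtain ⟨k, hk⟩ := hdvd
    have hk1 : k ≠ 1 := fun e => hT (Sylow.ext ((Subgroup.eq_of_le_of_card_ge hTN
      (by rw [hk, e, hsyl])).trans (Subgroup.eq_of_le_of_card_ge hSN (by rw [hk, e, hScard])).symm))
    refine Subgroup.eq_top_of_card_eq _ ?_
    rw [hC]
    have h3 : k ∣ 3 := by
      rw [hk, show (384 : ℕ) = 128 * 3 by norm_num] at hdvd'
      exact Nat.dvd_of_mul_dvd_mul_left (by norm_num) hdvd'
    rcases (Nat.dvd_prime Nat.prime_three).1 h3 with h3 | h3
    · exact absurd h3 hk1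
    · omega
  haveI hDn : D.Normal := Subgroup.normalizer_eq_top_iff.1 hN
  refine ⟨D, hDn, hDcard, fun x hx X hX hxX => ?_⟩
  have hDp : IsPGroup 2 D := IsPGroup.of_card (n := 6) (by rw [hDcard]; norm_num)
  by_contra hnot
  have hlt : D < X ⊔ D := lt_of_le_of_ne le_sup_right fun e => hnot (e ▸ le_sup_left)
  obtain ⟨n, hn⟩ := IsPGroup.iff_card.1 (hX.to_sup_of_normal_right hDp)
  have hgt : 64 < Nat.card ↥(X ⊔ D) := by
    rw [← hDcard]
    by_contra h
    exact hlt.ne (Subgroup.eq_of_le_of_card_ge hlt.le (by omega))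
  have hdiv := Subgroup.card_subgroup_dvd_card (X ⊔ D)
  rw [hC] at hdiv
  have hXD : Nat.card ↥(X ⊔ D) = 128 := by
    rw [hn] at hgt hdiv ⊢
    have : n ≤ 7 := by
      by_contra h
      have := (Nat.pow_dvd_pow 2 (show 8 ≤ n by omega)).trans hdiv
      norm_num at this
    interval_cases n <;> first | rfl | (norm_num at hgt)
  refine hnn _ hXD (Subgroup.normalizer_eq_top_iff.1 (Subgroup.eq_top_of_card_eq _ ?_))
  have hle : (X ⊔ D) ≤ normalizer ((X ⊔ D : Subgroup C) : Set C) := le_normalizer
  have hxm : x ∈ normalizer ((X ⊔ D : Subgroup C) : Set C) := by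
    refine mem_normalizer_of_map_mem fun y hy => ?_
    have : (X ⊔ D).map (MulAut.conj x).toMonoidHom ≤ X ⊔ D := by
      rw [Subgroup.map_sup]
      refine sup_le_sup ?_ ?_
      · rintro _ ⟨z, hz, rfl⟩
        exact conj_mem_of_mem_normalizer hxX hz
      · rintro _ ⟨z, hz, rfl⟩
        exact hDn.conj_mem z hz x
    exact this ⟨y, hy, rfl⟩
  have h128 := Subgroup.card_dvd_of_le hle
  have h3 := Subgroup.orderOf_dvd_natCard _ hxm
  have hd := Subgroup.card_subgroup_dvd_card (normalizer ((X ⊔ D : Subgroup C) : Set C))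
  rw [hXD] at h128
  rw [hx] at h3
  rw [hC] at hd ⊢
  exact Nat.dvd_antisymm hd ((show Nat.Coprime 128 3 by norm_num).mul_dvd_of_dvd_of_dvd h128 h3)

variable (hF : Facts G)

include hF in
theorem cent_dvd_thirty_six {u : G} (hu : orderOf u = 3) {X : Subgroup G}
    (hX : X ≤ centralizer ({u} : Set G)) : Nat.card X ∣ 36 :=
  hF.cent_three u hu ▸ Subgroup.card_dvd_of_le hX

/-- The four group of the centralizer of an element of order three. -/
structure IsFourOf (u : G) (V : Subgroup G) : Prop where
  card : Nat.card V = 4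
  sq : ∀ v ∈ V, v * v = 1
  le : V ≤ centralizer ({u} : Set G)
  norm : centralizer ({u} : Set G) ≤ normalizer (V : Set G)
  two : ∀ X : Subgroup G, X ≤ centralizer ({u} : Set G) → IsPGroup 2 X → X ≤ V
  fixed : ∀ a ∈ centralizer ({u} : Set G), orderOf a ∣ 9 → a ∉ zpowers u → ∀ v ∈ V, Commute a v → v = 1

include hF in
theorem exists_four {u : G} (hu : orderOf u = 3) : ∃ V : Subgroup G, IsFourOf u V := by
  haveI := Fact.mk Nat.prime_two
  haveI := Fact.mk Nat.prime_three
  set M := centralizer ({u} : Set G) with hM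
  have hMc : Nat.card M = 36 := hF.cent_three u hu
  have huM : u ∈ M := mem_centralizer_singleton_iff.2 rfl
  -- no involution commutes with a group of order nine of the centralizer
  have hfix : ∀ a ∈ M, orderOf a ∣ 9 → a ∉ zpowers u → ∀ v : G, v * v = 1 → Commute u v → Commute a v →
      v = 1 := by
    intro a ha hao hau v hv huv hav
    by_contra hv1
    have hvo : orderOf v = 2 := orderOf_eq_prime (by rw [pow_two, hv]) hv1
    have hA : zpowers u ⊔ zpowers a ≤ centralizer ({v} : Set G) :=
      sup_le (zpowers_le.2 (mem_centralizer_singleton_iff.2 huv.eq))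
        (zpowers_le.2 (mem_centralizer_singleton_iff.2 hav.eq))
    have hA' : zpowers u ⊔ zpowers a ≤ M := sup_le (zpowers_le.2 huM) (zpowers_le.2 ha)
    have hcom : zpowers a ≤ normalizer (zpowers u : Set G) := by
      refine zpowers_le.2 ((centralizer_le_normalizer _) (mem_centralizer_iff.2 fun y hy => ?_))
      obtain ⟨n, rfl⟩ := mem_zpowers_iff.1 hy
      exact (Commute.zpow_left (mem_centralizer_singleton_iff.1 ha : Commute a u).symm n).eq
    have hp : IsPGroup 3 ↥(zpowers a ⊔ zpowers u) := IsPGroup.to_sup_of_normal_right'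
      (by
        obtain ⟨k, -, hk⟩ := (Nat.dvd_prime_pow Nat.prime_three (m := 2)).1 hao
        exact IsPGroup.of_card (n := k) (by rw [Nat.card_zpowers, hk]))
      (IsPGroup.of_card (n := 1) (by rw [Nat.card_zpowers, hu, pow_one])) hcom
    obtain ⟨n, hn⟩ := IsPGroup.iff_card.1 hp
    rw [sup_comm] at hn
    have h1 := Subgroup.card_dvd_of_le hA
    rw [hF.cent_invol v hvo, hn] at h1
    have h2 : n ≤ 1 := by
      by_contra h
      have := (Nat.pow_dvd_pow 3 (show 2 ≤ n by omega)).trans h1
      norm_num at this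
    have h3 : zpowers u = zpowers u ⊔ zpowers a := Subgroup.eq_of_le_of_card_ge le_sup_left (by
      rw [hn, Nat.card_zpowers, hu]
      calc 3 ^ n ≤ 3 ^ 1 := Nat.pow_le_pow_right (by norm_num) h2
        _ = 3 := by norm_num)
    exact hau (h3 ▸ mem_sup_right (mem_zpowers a))
  let S : Sylow 2 M := default
  have hS : Nat.card (S : Subgroup M) = 4 :=
    card_sylow_eq (a := 2) (m := 9) S (by rw [hMc]; norm_num) (by norm_num)
  let P : Sylow 3 M := default
  have hP : Nat.card (P : Subgroup M) = 9 :=
    card_sylow_eq (a := 2) (m := 4) P (by rw [hMc]; norm_num) (by norm_num)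
  have huc : ∀ y : M, Commute u (y : G) := fun y => (mem_centralizer_singleton_iff.1 y.2).symm
  haveI : (zpowers (⟨u, huM⟩ : M)).Normal := by
    refine ⟨fun z hz y => ?_⟩
    obtain ⟨n, rfl⟩ := mem_zpowers_iff.1 hz
    have h : Commute (⟨u, huM⟩ : M) y := Subtype.ext (huc y).eq
    rw [((h.zpow_left n).symm).eq, mul_inv_cancel_right]
    exact zpow_mem (mem_zpowers _) n
  have huP : (⟨u, huM⟩ : M) ∈ (P : Subgroup M) := by
    have hz : IsPGroup 3 (zpowers (⟨u, huM⟩ : M)) :=
      IsPGroup.of_card (n := 1) (by rw [Nat.card_zpowers, Subgroup.orderOf_mk, hu, pow_one])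
    obtain ⟨P', hP'⟩ := hz.exists_le_sylow
    obtain ⟨g, hg⟩ := MulAction.exists_smul_eq M P' P
    rw [← hg, Sylow.coe_subgroup_smul]
    refine ⟨⟨u, huM⟩, hP' (mem_zpowers _), ?_⟩
    show g * ⟨u, huM⟩ * g⁻¹ = _
    rw [← (show Commute (⟨u, huM⟩ : M) g from Subtype.ext (huc g).eq).eq, mul_inv_cancel_right]
  -- a normal 2-complement is impossible
  have hnc : ¬ normalizer ((S : Subgroup M) : Set M) ≤ centralizer ((S : Subgroup M) : Set M) := by
    intro h
    obtain ⟨N, hNn, hNc⟩ : ∃ N : Subgroup M, N.Normal ∧ Nat.card N = 9 := by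
      haveI : ((S : Subgroup M)).FiniteIndex := inferInstance
      have hc := MonoidHom.ker_transferSylow_isComplement' S h
      have h' := hc.card_mul
      rw [hS, hMc] at h'
      exact ⟨_, MonoidHom.normal_ker (MonoidHom.transferSylow S h), by omega⟩
    -- `N` is the only group of order nine, so `S` acts on it and some involution centralizes it
    obtain ⟨a, ha, hau⟩ : ∃ a ∈ N, a ∉ zpowers (⟨u, huM⟩ : M) := by
      by_contra h'
      push Not at h'
      have := Subgroup.card_le_of_le (show N ≤ zpowers (⟨u, huM⟩ : M) from h')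
      rw [hNc, Nat.card_zpowers, Subgroup.orderOf_mk, hu] at this
      omega
    obtain ⟨s, hsS, hs2, hsa⟩ : ∃ s ∈ (S : Subgroup M), orderOf s = 2 ∧
        s * a * s⁻¹ * a⁻¹ ∈ zpowers (⟨u, huM⟩ : M) := by
      set π := QuotientGroup.mk' (zpowers (⟨u, huM⟩ : M)) with hπ
      set Nb := N.map π with hNb
      have hNb3 : Nat.card Nb ≤ 3 := by
        have hle : zpowers (⟨u, huM⟩ : M) ≤ N := by
          rw [zpowers_le]
          have hu3 : IsPGroup 3 (P : Subgroup M) := P.2
          obtain ⟨P', hP'⟩ := (IsPGroup.of_card (p := 3) (n := 2) (by rw [hNc]; norm_num) :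
            IsPGroup 3 N).exists_le_sylow
          have hPN : N = (P' : Subgroup M) := Subgroup.eq_of_le_of_card_ge hP'
            (by rw [hNc, P'.card_eq_multiplicity, ← P.card_eq_multiplicity, hP])
          obtain ⟨g, hg⟩ := MulAction.exists_smul_eq M P P'
          rw [hPN, ← hg, Sylow.coe_subgroup_smul]
          refine ⟨⟨u, huM⟩, huP, ?_⟩
          show g * ⟨u, huM⟩ * g⁻¹ = _
          rw [← (show Commute (⟨u, huM⟩ : M) g from Subtype.ext (huc g).eq).eq, mul_inv_cancel_right]
        have h1 := Subgroup.card_mul_index ((zpowers (⟨u, huM⟩ : M)).subgroupOf N)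
        rw [Nat.card_congr (subgroupOfEquivOfLe hle).toEquiv, hNc, Nat.card_zpowers, Subgroup.orderOf_mk,
          hu] at h1
        have h2 : Nat.card Nb ≤ ((zpowers (⟨u, huM⟩ : M)).subgroupOf N).index := by
          refine le_of_eq ?_
          rw [hNb, show N.map π = (π.comp N.subtype).range by rw [MonoidHom.range_comp, Subgroup.range_subtype],
            ← Subgroup.index_ker]
          congr 1
          rw [← MonoidHom.comap_ker, hπ, QuotientGroup.ker_mk']
          rfl
        omega
      -- the four elements of `S` act on at most three cosets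
      obtain ⟨s₁, s₂, hne, he⟩ : ∃ s₁ s₂ : (S : Subgroup M), s₁ ≠ s₂ ∧
          π ((s₁ : M) * a * (s₁ : M)⁻¹) = π ((s₂ : M) * a * (s₂ : M)⁻¹) := by
        by_contra hno
        push Not at hno
        have hinj : Function.Injective fun s : (S : Subgroup M) =>
            (⟨π ((s : M) * a * (s : M)⁻¹), mem_map_of_mem _ (hNn.conj_mem a ha s)⟩ : Nb) := fun x y hxy => by
          by_contra hxy'
          exact hno x y hxy' (congrArg Subtype.val hxy)
        have := Nat.card_le_card_of_injective _ hinj
        rw [hS] at this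
        omega
      set s : M := (s₂ : M)⁻¹ * s₁ with hs
      have hsS : s ∈ (S : Subgroup M) := mul_mem (inv_mem s₂.2) s₁.2
      have hfixs : π s * π a * (π s)⁻¹ = π a := by
        simp only [map_mul, map_inv] at he
        rw [hs, map_mul, map_inv]
        calc (π s₂)⁻¹ * π s₁ * π a * ((π (s₂ : M))⁻¹ * π s₁)⁻¹
            = (π (s₂ : M))⁻¹ * (π s₁ * π a * (π (s₁ : M))⁻¹) * π s₂ := by group
          _ = π a := by rw [he]; group
      have hs1 : s ≠ 1 := fun e => hne (Subtype.ext (eq_of_inv_mul_eq_one e).symm)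
      have hso : orderOf s ∣ 4 := hS ▸ Subgroup.orderOf_dvd_natCard _ hsS
      obtain ⟨k, hk, hsk⟩ := (Nat.dvd_prime_pow Nat.prime_two (m := 2)).1 hso
      have hk0 : k ≠ 0 := fun e => hs1 (orderOf_eq_one_iff.1 (by rw [hsk, e, pow_zero]))
      refine ⟨s ^ 2 ^ (k - 1), pow_mem hsS _, ?_, ?_⟩
      · rw [orderOf_pow' _ (by positivity), hsk]
        interval_cases k <;> simp_all
      · rw [← QuotientGroup.eq_one_iff]
        show π _ = 1
        have hc : Commute (π s) (π a) := mul_inv_eq_iff_eq_mul.1 hfixs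
        rw [map_mul, map_mul, map_mul, map_inv, map_inv, map_pow, (hc.pow_left _).eq]
        group
    have hcomm : Commute s a := by
      obtain ⟨n, hn⟩ := mem_zpowers_iff.1 hsa
      have hcu : Commute (⟨u, huM⟩ : M) s := Subtype.ext (huc s).eq
      have h1 : s * a * s⁻¹ = (⟨u, huM⟩ : M) ^ n * a := by rw [hn]; group
      have h2 : s * (s * a * s⁻¹) * s⁻¹ = a := by
        have hss : s * s = 1 := by rw [← pow_two, ← hs2, pow_orderOf_eq_one]
        calc s * (s * a * s⁻¹) * s⁻¹ = (s * s) * a * (s * s)⁻¹ := by group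
          _ = a := by rw [hss]; simp
      have h3 : (⟨u, huM⟩ : M) ^ (2 * n) = 1 := by
        rw [h1] at h2
        have e : s * ((⟨u, huM⟩ : M) ^ n * a) * s⁻¹ = (⟨u, huM⟩ : M) ^ n * (s * a * s⁻¹) := by
          rw [← mul_assoc s, ← (hcu.zpow_left n).eq]; group
        rw [e, h1, ← mul_assoc, ← zpow_add, mul_eq_right, ← two_mul] at h2
        exact h2
      have h4 : (⟨u, huM⟩ : M) ^ n = 1 := by
        rw [← orderOf_dvd_iff_zpow_eq_one, Subgroup.orderOf_mk, hu] at h3 ⊢
        omega
      rw [h4, one_mul] at h1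
      exact mul_inv_eq_iff_eq_mul.1 h1
    have hao : orderOf (a : G) ∣ 9 := by
      rw [Subgroup.orderOf_coe]; exact hNc ▸ Subgroup.orderOf_dvd_natCard _ ha
    have hau' : (a : G) ∉ zpowers u := fun h' => hau (by
      obtain ⟨n, hn⟩ := mem_zpowers_iff.1 h'
      exact mem_zpowers_iff.2 ⟨n, Subtype.ext (by simpa using hn)⟩)
    have := hfix (a : G) a.2 hao hau' (s : G) (by
      have h : s * s = 1 := by rw [← pow_two, ← hs2, pow_orderOf_eq_one]
      exact congrArg Subtype.val h) (huc s) (congrArg Subtype.val hcomm.symm.eq)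
    rw [show s = 1 from Subtype.ext this, orderOf_one] at hs2
    omega
  obtain ⟨x, hxN, hxC⟩ := SetLike.not_le_iff_exists.1 hnc
  set N := normalizer ((S : Subgroup M) : Set M) with hN
  -- the normalizer is everything
  have hSN : (S : Subgroup M) ≤ N := le_normalizer
  have huN : (⟨u, huM⟩ : M) ∈ centralizer ((S : Subgroup M) : Set M) :=
    mem_centralizer_iff.2 fun z _ => Subtype.ext (huc z).symm.eq
  have hScent : (S : Subgroup M) ≤ centralizer ((S : Subgroup M) : Set M) := by
    haveI : IsMulCommutative (S : Subgroup M) :=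
      IsPGroup.isMulCommutative_of_card_eq_prime_sq (p := 2) (by rw [hS]; norm_num)
    exact Subgroup.le_centralizer _
  have hCd : 12 ∣ Nat.card (centralizer ((S : Subgroup M) : Set M)) := by
    refine (show Nat.Coprime 4 3 by norm_num).mul_dvd_of_dvd_of_dvd
      (hS ▸ Subgroup.card_dvd_of_le hScent) ?_
    have := Subgroup.orderOf_dvd_natCard _ huN
    rwa [Subgroup.orderOf_mk, hu] at this
  have hCN : centralizer ((S : Subgroup M) : Set M) ≤ N := centralizer_le_normalizer _
  have hNtop : N = ⊤ := by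
    have h1 := Subgroup.card_dvd_of_le hCN
    have h2 := Subgroup.card_subgroup_dvd_card N
    rw [hMc] at h2
    have hlt : Nat.card (centralizer ((S : Subgroup M) : Set M)) < Nat.card N := by
      by_contra h
      exact hxC ((Subgroup.eq_of_le_of_card_ge hCN (by omega)).symm ▸ hxN)
    refine Subgroup.eq_top_of_card_eq _ ?_
    rw [hMc]
    have h4 := Nat.le_of_dvd (by norm_num) h2
    obtain ⟨c, hc⟩ := hCd
    obtain ⟨d, hd⟩ := (hc ▸ h1 : 12 * c ∣ Nat.card N)
    have hc0 : 0 < c := by
      have : 0 < Nat.card (centralizer ((S : Subgroup M) : Set M)) := Nat.card_pos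
      omega
    have hd2 : 2 ≤ d := by nlinarith
    rw [hd] at h2 h4 hlt ⊢
    have : c * d ≤ 3 := by nlinarith
    have : c * d = 2 ∨ c * d = 3 := by
      have : 2 ≤ c * d := by nlinarith
      omega
    rcases this with e | e
    · rw [mul_assoc, e] at h2; norm_num at h2
    · rw [mul_assoc, e]; norm_num
  haveI hSn : (S : Subgroup M).Normal := normalizer_eq_top_iff.1 hNtop
  set V := (S : Subgroup M).map M.subtype with hV
  have hVM : V ≤ M := map_subtype_le _
  have hVc : Nat.card V = 4 := by rw [hV, card_map_of_injective M.subtype_injective, hS]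
  have hnorm : M ≤ normalizer (V : Set G) := fun y hy => mem_normalizer_of_map_mem fun z hz => by
    obtain ⟨z', hz', rfl⟩ := hz
    exact ⟨⟨y, hy⟩ * z' * ⟨y, hy⟩⁻¹, hSn.conj_mem z' hz' _, rfl⟩
  have hsq : ∀ v ∈ V, v * v = 1 := by
    -- an element of order nine part moves the involutions
    obtain ⟨a, ha, hau⟩ : ∃ a ∈ (P : Subgroup M), (a : G) ∉ zpowers u := by
      by_contra h'
      push Not at h'
      have hle : (P : Subgroup M).map M.subtype ≤ zpowers u := by
        rintro _ ⟨z, hz, rfl⟩; exact h' z hz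
      have := Subgroup.card_le_of_le hle
      rw [card_map_of_injective M.subtype_injective, hP, Nat.card_zpowers, hu] at this
      omega
    intro v hv
    by_contra hne
    have hv4 : orderOf v = 4 := by
      have h := hVc ▸ Subgroup.orderOf_dvd_natCard V hv
      obtain ⟨k, hk, hvk⟩ := (Nat.dvd_prime_pow Nat.prime_two (m := 2)).1 h
      interval_cases k
      · have hv1 : v = 1 := orderOf_eq_one_iff.1 (by rw [hvk, pow_zero])
        exact absurd (by rw [hv1, one_mul]) hne
      · have hv2 : v ^ 2 = 1 := by rw [show (2 : ℕ) = orderOf v by rw [hvk, pow_one], pow_orderOf_eq_one]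
        exact absurd (by rw [← pow_two, hv2]) hne
      · simpa using hvk
    have hVz : zpowers v = V := Subgroup.eq_of_le_of_card_ge (zpowers_le.2 hv)
      (by rw [Nat.card_zpowers, hv4, hVc])
    have hinv : (v * v) * (v * v) = 1 := by
      rw [show (v * v) * (v * v) = v ^ 4 by simp [pow_succ, mul_assoc], ← hv4, pow_orderOf_eq_one]
    obtain ⟨n, hn⟩ := mem_zpowers_iff.1 (hVz.ge (conj_mem_of_mem_normalizer (hnorm a.2) hv))
    have hodd : Odd n := by
      by_contra h
      obtain ⟨m, hm⟩ := Int.not_odd_iff_even.1 h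
      have : ((a : G) * v * (a : G)⁻¹) ^ 2 = 1 := by
        rw [← hn, hm, ← zpow_natCast (v ^ (m + m)) 2, ← zpow_mul,
          show (m + m) * ((2 : ℕ) : ℤ) = (4 : ℕ) * m by push_cast; ring, zpow_mul, zpow_natCast, ← hv4,
          pow_orderOf_eq_one, one_zpow]
      rw [conj_pow, mul_inv_eq_one, mul_eq_left, pow_two] at this
      exact hne this
    obtain ⟨m, hm⟩ := hodd
    have hcom : Commute (a : G) (v * v) := by
      have h : (a : G) * (v * v) * (a : G)⁻¹ = v * v := by
        rw [show (a : G) * (v * v) * (a : G)⁻¹ = ((a : G) * v * (a : G)⁻¹) * ((a : G) * v * (a : G)⁻¹)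
          by group, ← hn, hm, ← zpow_add]
        rw [show (2 * m + 1) + (2 * m + 1) = (4 : ℕ) * m + 2 by push_cast; ring, zpow_add, zpow_mul,
          zpow_natCast, ← hv4, pow_orderOf_eq_one, one_zpow, one_mul, zpow_two]
      exact mul_inv_eq_iff_eq_mul.1 h
    refine hne (hfix (a : G) a.2 ?_ hau _ hinv (huc ⟨v * v, mul_mem (hVM hv) (hVM hv)⟩) hcom)
    rw [Subgroup.orderOf_coe]
    exact hP ▸ Subgroup.orderOf_dvd_natCard _ ha
  refine ⟨V, hVc, hsq, hVM, hnorm, fun X hX hXp => ?_, fun a ha hao hau v hv hav =>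
    hfix a ha hao hau v (hsq v hv) (mem_centralizer_singleton_iff.1 (hVM hv) : Commute v u).symm hav⟩
  intro y hy
  letI := Sylow.unique_of_normal S hSn
  obtain ⟨T, hT⟩ := (hXp.comap_of_injective M.subtype M.subtype_injective).exists_le_sylow
  rw [Subsingleton.elim T S] at hT
  exact ⟨⟨y, hX hy⟩, hT hy, rfl⟩

/-- The large normal 2-subgroup of the centralizer of an involution. -/
structure IsCoreOf (t : G) (Q : Subgroup G) : Prop where
  le : Q ≤ centralizer ({t} : Set G)
  card : Nat.card Q = 64
  norm : centralizer ({t} : Set G) ≤ normalizer (Q : Set G)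
  two : ∀ x : G, x ∈ centralizer ({t} : Set G) → orderOf x = 3 → ∀ X : Subgroup G,
    X ≤ centralizer ({t} : Set G) → IsPGroup 2 X → x ∈ normalizer (X : Set G) → X ≤ Q

include hF in
theorem exists_core {t : G} (ht : orderOf t = 2) : ∃ Q : Subgroup G, IsCoreOf t Q := by
  haveI := Fact.mk Nat.prime_two
  haveI := Fact.mk Nat.prime_three
  set C := centralizer ({t} : Set G) with hC
  have hCc : Nat.card C = 384 := hF.cent_invol t ht
  obtain ⟨Q, hQn, hQc, hQ⟩ := exists_core_384 hCc fun S hS hSn => by
    -- a normal Sylow subgroup would have a fixed four group under an element of order three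
    obtain ⟨x, hx⟩ := exists_prime_orderOf_dvd_card' (G := C) 3 (by rw [hCc]; norm_num)
    have hxG : orderOf (x : G) = 3 := by rw [Subgroup.orderOf_coe, hx]
    obtain ⟨V, hV⟩ := exists_four hF hxG
    have htx : Commute (x : G) t := mem_centralizer_singleton_iff.1 x.2
    have htV : t ∈ V := hV.two (zpowers t) (zpowers_le.2 (mem_centralizer_singleton_iff.2 htx.symm.eq))
      (IsPGroup.of_card (n := 1) (by rw [Nat.card_zpowers, ht, pow_one])) (mem_zpowers t)
    haveI : IsMulCommutative V := IsPGroup.isMulCommutative_of_card_eq_prime_sq (p := 2) (by rw [hV.card]; norm_num)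
    have hVC : V ≤ C := fun v hv => mem_centralizer_singleton_iff.2
      (congrArg Subtype.val (mul_comm' (⟨v, hv⟩ : V) ⟨t, htV⟩))
    haveI : Subsingleton (Sylow 2 C) := by
      obtain ⟨T, hT⟩ := (IsPGroup.of_card (p := 2) (n := 7) (by rw [hS]; norm_num) : IsPGroup 2 S).exists_le_sylow
      have : (T : Subgroup C) = S := (Subgroup.eq_of_le_of_card_ge hT (by
        rw [hS, card_sylow_eq (a := 7) (m := 3) T (by rw [hCc]; norm_num) (by norm_num)]
        norm_num)).symm
      letI := Sylow.unique_of_normal T (this ▸ hSn)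
      infer_instance
    have hVS : V ≤ S.map C.subtype := by
      intro v hv
      obtain ⟨T, hT⟩ := ((IsPGroup.of_card (p := 2) (n := 2) (by rw [hV.card]; norm_num) :
        IsPGroup 2 V).comap_of_injective C.subtype C.subtype_injective).exists_le_sylow
      obtain ⟨U, hU⟩ := (IsPGroup.of_card (p := 2) (n := 7) (by rw [hS]; norm_num) : IsPGroup 2 S).exists_le_sylow
      have hUS : (U : Subgroup C) = S := (Subgroup.eq_of_le_of_card_ge hU (by
        rw [hS, card_sylow_eq (a := 7) (m := 3) U (by rw [hCc]; norm_num) (by norm_num)]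
        norm_num)).symm
      exact ⟨⟨v, hVC hv⟩, hUS ▸ (Subsingleton.elim T U ▸ hT (x := ⟨v, hVC hv⟩) hv), rfl⟩
    have hxN : (x : G) ∈ normalizer ((S.map C.subtype : Subgroup G) : Set G) :=
      mem_normalizer_of_map_mem fun y hy => by
        obtain ⟨y', hy', rfl⟩ := hy
        exact ⟨x * y' * x⁻¹, hSn.conj_mem y' hy' x, rfl⟩
    have h := card_modEq_fixed (p := 3) _ hxG hxN
    have heq : S.map C.subtype ⊓ centralizer ({(x : G)} : Set G) = V := le_antisymm
      (hV.two _ inf_le_right ((IsPGroup.of_card (p := 2) (n := 7)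
        (by rw [card_map_of_injective C.subtype_injective, hS]; norm_num)).to_le inf_le_left))
      (le_inf hVS hV.le)
    rw [card_map_of_injective C.subtype_injective, hS, heq, hV.card] at h
    norm_num [Nat.ModEq] at h
  refine ⟨Q.map C.subtype, map_subtype_le _, by rw [card_map_of_injective C.subtype_injective, hQc],
    fun y hy => mem_normalizer_of_map_mem fun z hz => ?_, fun x hx hxo X hX hXp hxX => ?_⟩
  · obtain ⟨z', hz', rfl⟩ := hz
    exact ⟨⟨y, hy⟩ * z' * ⟨y, hy⟩⁻¹, hQn.conj_mem z' hz' _, rfl⟩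
  · have h := hQ ⟨x, hx⟩ (by rw [Subgroup.orderOf_mk, hxo]) (X.subgroupOf C)
      (hXp.comap_of_injective C.subtype C.subtype_injective) (mem_normalizer_of_map_mem fun y hy => by
        show x * (y : G) * x⁻¹ ∈ X
        exact conj_mem_of_mem_normalizer hxX hy)
    intro y hy
    exact ⟨⟨y, hX hy⟩, h hy, rfl⟩

end CfsgLib.Char.MTwentyTwoOrder
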