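import Cfsg.Agent.Lib.Char.MTwentyTwoOrder.Local.Pair

/-!
# Simple groups of order 443520: existence of a good pair of elements of order three
-/

set_option autoImplicit false
set_option linter.all false

open Subgroup MulAction
open scoped Pointwise

namespace CfsgLib.Char.MTwentyTwoOrder

universe u

variable {G : Type u} [Group G] [Finite G]

/-- Orbit and stabilizer for conjugation. -/
theorem card_eq_orbit_mul (H : Subgroup G) (t : G) :
    Nat.card H = ((fun h => h * t * h⁻¹) '' (H : Set G)).ncard *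
      Nat.card ↥(H ⊓ centralizer ({t} : Set G)) := by
  set S := (H ⊓ centralizer ({t} : Set G)).subgroupOf H with hS
  let f : H ⧸ S → ((fun h => h * t * h⁻¹) '' (H : Set G) : Set G) := fun q =>
    Quotient.liftOn' q (fun h => ⟨_, h, h.2, rfl⟩) fun a b hab => Subtype.ext (by
      rw [QuotientGroup.leftRel_apply, hS, mem_subgroupOf] at hab
      have h : ((a : G)⁻¹ * b) * t = t * ((a : G)⁻¹ * b) := mem_centralizer_singleton_iff.1 hab.2
      show (a : G) * t * (a : G)⁻¹ = b * t * (b : G)⁻¹
      calc (a : G) * t * (a : G)⁻¹ = a * (t * ((a : G)⁻¹ * b)) * (b : G)⁻¹ := by group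
        _ = a * (((a : G)⁻¹ * b) * t) * (b : G)⁻¹ := by rw [h]
        _ = b * t * (b : G)⁻¹ := by group)
  have hf : Function.Bijective f := by
    refine ⟨fun q r => ?_, fun y => ?_⟩
    · refine Quotient.inductionOn₂' q r fun a b h => Quotient.sound' ?_
      have h' : (a : G) * t * (a : G)⁻¹ = b * t * (b : G)⁻¹ := congrArg Subtype.val h
      rw [QuotientGroup.leftRel_apply, hS, mem_subgroupOf]
      refine ⟨(a⁻¹ * b : H).2, mem_centralizer_singleton_iff.2 ?_⟩
      simp only [coe_mul, coe_inv]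
      calc (a : G)⁻¹ * b * t = (a : G)⁻¹ * (b * t * (b : G)⁻¹) * b := by group
        _ = t * ((a : G)⁻¹ * b) := by rw [← h']; group
    · obtain ⟨h, hh, he⟩ := y.2
      exact ⟨QuotientGroup.mk (⟨h, hh⟩ : H), Subtype.ext he⟩
  rw [← Nat.card_coe_set_eq, ← Nat.card_congr (Equiv.ofBijective f hf), ← Subgroup.index_eq_card,
    ← Nat.card_congr (subgroupOfEquivOfLe (inf_le_left : H ⊓ centralizer ({t} : Set G) ≤ H)).toEquiv,
    mul_comm, ← hS, Subgroup.card_mul_index]

variable (hF : Facts G)

include hF in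
theorem card_two_group_le {t : G} (ht : orderOf t = 2) {X : Subgroup G}
    (hX : X ≤ centralizer ({t} : Set G)) (hp : IsPGroup 2 X) : Nat.card X ≤ 128 := by
  haveI := Fact.mk Nat.prime_two
  obtain ⟨n, hn⟩ := IsPGroup.iff_card.1 hp
  have h := Subgroup.card_dvd_of_le hX
  rw [hF.cent_invol t ht, hn] at h
  rw [hn]
  by_contra hc
  have h8 : 8 ≤ n := by
    by_contra hh
    interval_cases n <;> norm_num at hc
  have := (Nat.pow_dvd_pow 2 h8).trans h
  norm_num at this

theorem Local.orderOf_t {u t : G} {V Q : Subgroup G} (L : Local u t V Q) : orderOf t = 2 :=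
  orderOf_eq_prime (by rw [pow_two, L.four.sq t L.mem]) L.ne

theorem mem_normalizer_sup {X Y : Subgroup G} {g : G} (hX : g ∈ normalizer (X : Set G))
    (hY : g ∈ normalizer (Y : Set G)) : g ∈ normalizer ((X ⊔ Y : Subgroup G) : Set G) := by
  refine mem_normalizer_of_map_mem fun y hy => ?_
  have h : (X ⊔ Y).map (MulAut.conj g).toMonoidHom ≤ X ⊔ Y := by
    rw [Subgroup.map_sup]
    refine sup_le_sup ?_ ?_
    · rintro _ ⟨z, hz, rfl⟩
      exact conj_mem_of_mem_normalizer hX hz
    · rintro _ ⟨z, hz, rfl⟩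
      exact conj_mem_of_mem_normalizer hY hz
  exact h ⟨y, hy, rfl⟩

theorem mem_normalizer_centralizer {X : Subgroup G} {g : G} (hg : g ∈ normalizer (X : Set G)) :
    g ∈ normalizer ((centralizer (X : Set G) : Subgroup G) : Set G) := by
  refine mem_normalizer_of_map_mem fun y hy => mem_centralizer_iff.2 fun x hx => ?_
  have h := mem_centralizer_iff.1 hy _ ((mem_normalizer_iff''.1 hg x).1 hx)
  calc x * (g * y * g⁻¹) = g * (g⁻¹ * x * g * y) * g⁻¹ := by group
    _ = g * (y * (g⁻¹ * x * g)) * g⁻¹ := by rw [h]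
    _ = g * y * g⁻¹ * x := by group

include hF in
/-- The core is not elementary abelian. -/
theorem not_elementary {u t : G} {V Q : Subgroup G} (L : Local u t V Q)
    (hc : ∀ x ∈ Q, ∀ y ∈ Q, Commute x y) (hsq : ∀ x ∈ Q, x * x = 1) : False := by
  haveI := Fact.mk Nat.prime_two
  haveI := Fact.mk Nat.prime_three
  have ht := L.orderOf_t
  have key : ∀ g : G, g * t * g⁻¹ ∈ Q → g ∈ normalizer (Q : Set G) := by
    intro g hg
    set Q₀ := Q.map (MulAut.conj g⁻¹).toMonoidHom with hQ₀
    have hc₀ : ∀ a ∈ Q₀, ∀ b ∈ Q₀, Commute a b := by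
      intro a ha b hb
      obtain ⟨a', ha', rfl⟩ := ha
      obtain ⟨b', hb', rfl⟩ := hb
      exact (hc a' ha' b' hb').map (MulAut.conj g⁻¹).toMonoidHom
    have htQ : t ∈ Q₀ := conj_mem_map.2 ⟨_, hg, by group⟩
    have hQ₀C : Q₀ ≤ centralizer ({t} : Set G) := fun y hy =>
      mem_centralizer_singleton_iff.2 (hc₀ y hy t htQ).eq
    have hQ₀p : IsPGroup 2 Q₀ := L.core.pgroup.map _
    have hQ₀c : Nat.card Q₀ = 64 := by
      rw [hQ₀, card_map_of_injective (MulAut.conj g⁻¹).injective, L.core.card]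
    by_cases heq : Q₀ = Q
    · rw [← inv_mem_iff]
      exact mem_normalizer_of_map_mem fun y hy => heq.le (conj_mem_map.2 ⟨y, hy, rfl⟩)
    exfalso
    obtain ⟨x, hx, hxQ⟩ : ∃ x ∈ Q₀, x ∉ Q := by
      by_contra h
      push Not at h
      exact heq (Subgroup.eq_of_le_of_card_ge h (by rw [hQ₀c, L.core.card]))
    set D := Q₀ ⊓ Q with hD
    have hD32 : 32 ≤ Nat.card D := by
      have h := card_mul_le (le_sup_left : Q₀ ≤ Q₀ ⊔ Q) (le_sup_right : Q ≤ Q₀ ⊔ Q)
      rw [hQ₀c, L.core.card] at h
      have h2 := card_two_group_le hF ht (sup_le hQ₀C L.core.le)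
        (IsPGroup.to_sup_of_normal_right' hQ₀p L.core.pgroup (hQ₀C.trans L.core.norm))
      rw [← hD] at h
      nlinarith
    have hxx : x * x = 1 := by
      obtain ⟨x', hx', rfl⟩ := hx
      rw [← map_mul, hsq x' hx', map_one]
    set x' := u * x * u⁻¹ with hx'
    have hxC := hQ₀C hx
    have hx'C : x' ∈ centralizer ({t} : Set G) := mul_mem (mul_mem L.u_mem hxC) (inv_mem L.u_mem)
    have hx'x' : x' * x' = 1 := by
      rw [hx', show u * x * u⁻¹ * (u * x * u⁻¹) = u * (x * x) * u⁻¹ by group, hxx]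
      group
    set y := x * x' with hy
    have hyC : y ∈ centralizer ({t} : Set G) := mul_mem hxC hx'C
    have hd : orderOf y ∣ 384 := hF.cent_invol t ht ▸ Subgroup.orderOf_dvd_natCard _ hyC
    set D' := D.map (MulAut.conj u).toMonoidHom with hD'
    have hD'Q : D' ≤ Q := by
      intro z hz
      obtain ⟨d, hd', rfl⟩ := conj_mem_map.1 hz
      exact conj_mem_of_mem_normalizer L.u_normalizer_core hd'.2
    by_cases h3 : 3 ∣ orderOf y
    · -- an element of order three centralizes too much
      set z := y ^ (orderOf y / 3) with hz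
      have hzo : orderOf z = 3 := orderOf_pow_orderOf_div (orderOf_pos y).ne' h3
      obtain ⟨W, hW⟩ := exists_four hF hzo
      have hle : D ⊓ D' ≤ centralizer ({z} : Set G) := by
        intro d hd'
        obtain ⟨d', hd'', he⟩ := conj_mem_map.1 hd'.2
        have h1 : Commute d x := hc₀ d hd'.1.1 x hx
        have h2 : Commute d x' := by
          show d * x' = x' * d
          rw [← he, hx']
          have := (hc₀ d' hd''.1 x hx).eq
          calc u * d' * u⁻¹ * (u * x * u⁻¹) = u * (d' * x) * u⁻¹ := by group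
            _ = u * (x * d') * u⁻¹ := by rw [this]
            _ = u * x * u⁻¹ * (u * d' * u⁻¹) := by group
        exact mem_centralizer_singleton_iff.2 ((h1.mul_right h2).pow_right _).eq
      have h16 := hW.two _ hle (L.core.pgroup.to_le (inf_le_left.trans inf_le_right))
      have h4 := Subgroup.card_le_of_le h16
      rw [hW.card] at h4
      have h := card_mul_le (inf_le_right : D ≤ Q) hD'Q
      rw [show Nat.card D' = Nat.card D by
        rw [hD', card_map_of_injective (MulAut.conj u).injective], L.core.card] at h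
      nlinarith
    · -- otherwise everything lies in one Sylow subgroup
      have hyp : IsPGroup 2 ↥(zpowers y) := by
        have h128 : orderOf y ∣ 2 ^ 7 := by
          have hcop : Nat.Coprime (orderOf y) 3 :=
            ((Nat.Prime.coprime_iff_not_dvd Nat.prime_three).2 h3).symm
          exact hcop.dvd_of_dvd_mul_right (m := 128) (by norm_num; exact hd)
        obtain ⟨j, -, hj⟩ := (Nat.dvd_prime_pow Nat.prime_two).1 h128
        exact IsPGroup.of_card (n := j) (by rw [Nat.card_zpowers, hj])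
      set Y := zpowers y ⊔ Q with hY
      have hYp : IsPGroup 2 Y := IsPGroup.to_sup_of_normal_right' hyp L.core.pgroup
        (zpowers_le.2 (L.core.norm hyC))
      have hxy : x * y * x⁻¹ = y⁻¹ := by
        rw [hy, mul_inv_rev, inv_eq_of_mul_eq_one_right hxx, inv_eq_of_mul_eq_one_right hx'x',
          ← mul_assoc x x, hxx, one_mul]
      have hxY : x ∈ normalizer (Y : Set G) := by
        refine mem_normalizer_sup (mem_normalizer_of_map_mem fun z hz => ?_) (L.core.norm hxC)
        obtain ⟨n, rfl⟩ := mem_zpowers_iff.1 hz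
        rw [← conj_zpow, hxy]
        exact zpow_mem (inv_mem (mem_zpowers y)) n
      have hxp : IsPGroup 2 ↥(zpowers x) :=
        hQ₀p.to_le (zpowers_le.2 hx)
      have hY3p : IsPGroup 2 ↥(zpowers x ⊔ Y) :=
        IsPGroup.to_sup_of_normal_right' hxp hYp (zpowers_le.2 hxY)
      have hY3C : zpowers x ⊔ Y ≤ centralizer ({t} : Set G) :=
        sup_le (zpowers_le.2 hxC) (sup_le (zpowers_le.2 hyC) L.core.le)
      have h3le := card_two_group_le hF ht hY3C hY3p
      set X := zpowers x ⊔ Q with hX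
      have hXp : IsPGroup 2 X := IsPGroup.to_sup_of_normal_right' hxp L.core.pgroup
        (zpowers_le.2 (L.core.norm hxC))
      have hXle : X ≤ zpowers x ⊔ Y := sup_le_sup_left le_sup_right _
      have hX128 : 128 ≤ Nat.card X := by
        obtain ⟨n, hn⟩ := IsPGroup.iff_card.1 hXp
        have hlt : 64 < Nat.card X := by
          rw [← L.core.card]
          by_contra h
          exact hxQ ((Subgroup.eq_of_le_of_card_ge (show Q ≤ X from le_sup_right) (not_lt.1 h)).ge
            (show x ∈ X from mem_sup_left (mem_zpowers x)))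
        rw [hn] at hlt ⊢
        by_contra h
        have : n < 7 := by
          by_contra h'
          exact h (le_trans (by norm_num) (Nat.pow_le_pow_right (show 0 < 2 by norm_num) (not_lt.1 h')))
        interval_cases n <;> norm_num at hlt
      have hXeq : X = zpowers x ⊔ Y := Subgroup.eq_of_le_of_card_ge hXle (h3le.trans hX128)
      have huX : u ∈ normalizer (X : Set G) := by
        refine mem_normalizer_of_map_mem fun z hz => ?_
        have h : X.map (MulAut.conj u).toMonoidHom ≤ X := by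
          rw [hX, Subgroup.map_sup, ← hX, MonoidHom.map_zpowers]
          refine sup_le (zpowers_le.2 ?_) ?_
          · show u * x * u⁻¹ ∈ X
            rw [← hx', hXeq, show x' = x * y by rw [hy, ← mul_assoc, hxx, one_mul]]
            exact mul_mem (mem_sup_left (mem_zpowers x)) (mem_sup_right (mem_sup_left (mem_zpowers y)))
          · rintro _ ⟨w, hw, rfl⟩
            exact mem_sup_right (conj_mem_of_mem_normalizer L.u_normalizer_core hw)
        exact h ⟨z, hz, rfl⟩
      exact hxQ (L.core.two u L.u_mem L.hu X (sup_le (zpowers_le.2 hxC) L.core.le) hXp huX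
        (mem_sup_left (mem_zpowers x)))
  set N := normalizer (Q : Set G) with hN
  have himg : (fun h => h * t * h⁻¹) '' (N : Set G) = (Q : Set G) \ {1} := by
    ext s
    constructor
    · rintro ⟨h, hh, rfl⟩
      refine ⟨conj_mem_of_mem_normalizer hh (L.four_le_core L.mem), fun e => L.ne ?_⟩
      exact conj_eq_one_iff.1 e
    · rintro ⟨hs, hs1⟩
      have hso : orderOf s = 2 := orderOf_eq_prime (by rw [pow_two, hsq s hs]) hs1
      obtain ⟨g, hg⟩ := isConj_iff.1 (hF.invol_conj t s ht hso)
      exact ⟨g, key g (hg ▸ hs), hg⟩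
  have h := card_eq_orbit_mul N t
  rw [himg, Set.ncard_sdiff_singleton_of_mem (show (1 : G) ∈ (Q : Set G) from Q.one_mem),
    ← Nat.card_coe_set_eq, show Nat.card ↥(Q : Set G) = 64 from L.core.card,
    inf_eq_right.2 L.core.norm, hF.cent_invol t ht] at h
  have hd := Subgroup.card_subgroup_dvd_card N
  rw [h, hF.card_eq] at hd
  norm_num at hd

include hF in
theorem exists_nine {u : G} (hu : orderOf u = 3) :
    ∃ A : Subgroup G, A ≤ centralizer ({u} : Set G) ∧ Nat.card A = 9 ∧ u ∈ A := by
  haveI := Fact.mk Nat.prime_three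
  set M := centralizer ({u} : Set G) with hM
  have huM : u ∈ M := mem_centralizer_singleton_iff.2 rfl
  obtain ⟨P, hP⟩ := (IsPGroup.of_card (p := 3) (n := 1)
    (by rw [Nat.card_zpowers, Subgroup.orderOf_mk, hu, pow_one]) :
      IsPGroup 3 ↥(zpowers (⟨u, huM⟩ : M))).exists_le_sylow
  refine ⟨(P : Subgroup M).map M.subtype, map_subtype_le _, ?_, ⟨⟨u, huM⟩, hP (mem_zpowers _), rfl⟩⟩
  rw [card_map_of_injective M.subtype_injective]
  exact card_sylow_eq (a := 2) (m := 4) P (by rw [hM, hF.cent_three u hu]; norm_num) (by norm_num)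

include hF in
/-- A fixed point outside the four group gives a pair. -/
theorem Local.pair_of_fixed {u t : G} {V Q A : Subgroup G} (L : Local u t V Q)
    (hAu : A ≤ centralizer ({u} : Set G)) (hA9 : Nat.card A = 9) (huA : u ∈ A) {a d : G} (ha : a ∈ A)
    (ha1 : a ≠ 1) (hd : d ∈ Q ⊓ centralizer (V : Set G)) (hdV : d ∉ V) (had : Commute a d) :
    ∃ F : Subgroup G, Pair u a t V F Q ∧ d ∈ F := by
  haveI := Fact.mk Nat.prime_two
  haveI := Fact.mk Nat.prime_three
  have hd1 : d ≠ 1 := fun e => hdV (e ▸ V.one_mem)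
  have hnu : a ∉ zpowers u := by
    intro h
    obtain ⟨n, hn⟩ := mem_zpowers_iff.1 h
    have hgen : u ∈ zpowers a := by
      rw [Subgroup.eq_of_le_of_card_ge (zpowers_le.2 h) (by
        rw [Nat.card_zpowers, Nat.card_zpowers, hu3 L]
        have hao : orderOf a ∣ 3 := hu3 L ▸ orderOf_dvd_of_mem_zpowers h
        rcases (Nat.dvd_prime Nat.prime_three).1 hao with e | e
        · exact absurd (orderOf_eq_one_iff.1 e) ha1
        · rw [e])]
      exact mem_zpowers u
    obtain ⟨m, hm⟩ := mem_zpowers_iff.1 hgen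
    refine hdV (L.core_inf_cent.le ⟨hd.1, mem_centralizer_singleton_iff.2 ?_⟩)
    exact (hm ▸ had.zpow_left m : Commute u d).symm.eq
  have hao : orderOf a = 3 := by
    obtain ⟨k, hk, hak⟩ := (Nat.dvd_prime_pow Nat.prime_three (m := 2)).1
      (by norm_num; exact hA9 ▸ Subgroup.orderOf_dvd_natCard A ha)
    interval_cases k
    · exact absurd (orderOf_eq_one_iff.1 (by rw [hak, pow_zero])) ha1
    · rw [hak, pow_one]
    · exfalso
      have hA : zpowers a = A := Subgroup.eq_of_le_of_card_ge (zpowers_le.2 ha)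
        (by rw [hA9, Nat.card_zpowers, hak]; norm_num)
      obtain ⟨m, hm⟩ := mem_zpowers_iff.1 (hA.ge huA)
      exact hdV (L.core_inf_cent.le ⟨hd.1, mem_centralizer_singleton_iff.2
        (hm ▸ had.zpow_left m : Commute u d).symm.eq⟩)
  obtain ⟨F, hFa⟩ := exists_four hF hao
  set R := Q ⊓ centralizer (V : Set G) with hR
  have hau : Commute u a := (mem_centralizer_singleton_iff.1 (hAu ha)).symm
  set X := R ⊓ centralizer ({a} : Set G) with hX
  have hXF : X ≤ F := hFa.two X inf_le_right (L.core.pgroup.to_le (inf_le_left.trans inf_le_left))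
  have huX : u ∈ normalizer (X : Set G) := mem_normalizer_of_map_mem fun y hy =>
    ⟨conj_mem_of_mem_normalizer L.u_normalizer_R hy.1,
      (centralizer ({a} : Set G)).mul_mem ((centralizer ({a} : Set G)).mul_mem
        (mem_centralizer_singleton_iff.2 hau.eq) hy.2)
        ((centralizer ({a} : Set G)).inv_mem (mem_centralizer_singleton_iff.2 hau.eq))⟩
  have hmod := card_modEq_fixed (p := 3) X L.hu huX
  have hbot : X ⊓ centralizer ({u} : Set G) = ⊥ := eq_bot_iff.2 fun y hy => mem_bot.2
    (L.four.fixed a (hAu ha) (by rw [hao]; norm_num) hnu y (L.core_inf_cent.le ⟨hy.1.1.1, hy.2⟩)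
      (mem_centralizer_singleton_iff.1 hy.1.2).symm)
  rw [hbot, Subgroup.card_bot] at hmod
  have hdX : d ∈ X := ⟨hd, mem_centralizer_singleton_iff.2 had.symm.eq⟩
  have h1 : 1 < Nat.card X := (Subgroup.one_lt_card_iff_ne_bot X).2
    fun e => hd1 (mem_bot.1 (e ▸ hdX))
  have hX4 := hFa.card ▸ Subgroup.card_dvd_of_le hXF
  have hcard : Nat.card X = 4 := by
    have := Nat.le_of_dvd (by norm_num) hX4
    interval_cases h : Nat.card X <;> simp_all [Nat.ModEq]
  have hXeq : X = F := Subgroup.eq_of_le_of_card_ge hXF (by rw [hcard, hFa.card])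
  refine ⟨F, ⟨L, hao, hau, hnu, hFa, hXeq ▸ (inf_le_left.trans inf_le_left), fun v hv f hf => ?_⟩,
    hXeq ▸ hdX⟩
  exact mem_centralizer_iff.1 (hXeq.ge hf).1.2 v hv
where
  hu3 {u t : G} {V Q : Subgroup G} (L : Local u t V Q) : orderOf u = 3 := L.hu

include hF in
/-- A pair whose sum is self-centralizing. -/
theorem exists_pair : ∃ (u k t : G) (V F Q : Subgroup G), Pair u k t V F Q ∧
    (Q ≤ centralizer (V : Set G) → ¬ Q ≤ centralizer (F : Set G)) := by
  haveI := Fact.mk Nat.prime_two
  haveI := Fact.mk Nat.prime_three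
  obtain ⟨u, hu⟩ := exists_prime_orderOf_dvd_card' (G := G) 3 (by rw [hF.card_eq]; norm_num)
  obtain ⟨V, hV⟩ := exists_four hF hu
  obtain ⟨⟨t, htV⟩, ht1⟩ : ∃ t : V, t ≠ 1 := by
    haveI : Nontrivial V := Finite.one_lt_card_iff_nontrivial.1 (by rw [hV.card]; norm_num)
    exact exists_ne 1
  have ht1' : t ≠ 1 := fun e => ht1 (Subtype.ext e)
  obtain ⟨Q, hQ⟩ := exists_core hF (t := t) (orderOf_eq_prime (by rw [pow_two, hV.sq t htV]) ht1')
  have L : Local u t V Q := ⟨hu, hV, htV, ht1', hQ⟩
  obtain ⟨A, hAu, hA9, huA⟩ := exists_nine hF hu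
  set R := Q ⊓ centralizer (V : Set G) with hR
  have hAV : A ≤ normalizer (V : Set G) := hAu.trans hV.norm
  have hAR : A ≤ normalizer (R : Set G) := hAu.trans L.R_invariant
  rcases L.card_cases L.four_le_R inf_le_left L.u_normalizer_R with h4 | h16 | h64
  · exfalso
    set N := Q ⊓ normalizer (V : Set G) with hN
    have hlt : V < Q := lt_of_le_of_ne L.four_le_core fun e => by
      have := hV.card; rw [e, hQ.card] at this; omega
    have hl := lt_inf_normalizer hQ.pgroup hlt
    have huN : u ∈ normalizer (N : Set G) := mem_normalizer_of_map_mem fun y hy =>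
      ⟨conj_mem_of_mem_normalizer L.u_normalizer_core hy.1, (normalizer _).mul_mem
        ((normalizer _).mul_mem L.u_normalizer_four hy.2) ((normalizer _).inv_mem L.u_normalizer_four)⟩
    have hle := card_le_two_mul_centralizer (X := N) hV.card inf_le_right htV L.orderOf_t fun x hx =>
      mul_inv_eq_iff_eq_mul.2 (mem_centralizer_singleton_iff.1 (hQ.le hx.1))
    have h8 : Nat.card ↥(N ⊓ centralizer (V : Set G)) ≤ 4 :=
      h4 ▸ Subgroup.card_le_of_le (inf_le_inf_right _ inf_le_left)
    rcases L.card_cases (X := N) hl.le inf_le_left huN with h | h | h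
    · exact hl.ne (Subgroup.eq_of_le_of_card_ge hl.le (by rw [hV.card, ← hN, h]))
    all_goals omega
  · by_cases hex : ∃ a ∈ A, a ≠ 1 ∧ ∃ d ∈ R, d ∉ V ∧ Commute a d
    · obtain ⟨a, ha, ha1, d, hd, hdV, had⟩ := hex
      obtain ⟨F, hP, -⟩ := L.pair_of_fixed hF hAu hA9 huA ha ha1 hd hdV had
      refine ⟨u, a, t, V, F, Q, hP, fun hQV => absurd h16 ?_⟩
      rw [show Nat.card R = Nat.card Q by rw [hR, inf_eq_left.2 hQV], hQ.card]
      norm_num
    · push Not at hex
      exfalso
      have h := eq_of_fixed_le hA9 hAR hAV L.four_le_R fun a ha ha1 d hd had => by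
        by_contra hdV
        exact hex a ha ha1 d hd hdV had
      rw [h16, hV.card] at h
      norm_num at h
  · have hRQ : R = Q := Subgroup.eq_of_le_of_card_ge inf_le_left (by rw [h64, hQ.card])
    have hQV : Q ≤ centralizer (V : Set G) := inf_eq_left.1 hRQ
    set Z := Q ⊓ centralizer (Q : Set G) with hZ
    by_cases hex : ∃ a ∈ A, a ≠ 1 ∧ ∃ d ∈ R, d ∉ V ∧ Commute a d ∧ d ∉ Z
    · obtain ⟨a, ha, ha1, d, hd, hdV, had, hdZ⟩ := hex
      obtain ⟨F, hP, hdF⟩ := L.pair_of_fixed hF hAu hA9 huA ha ha1 hd hdV had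
      exact ⟨u, a, t, V, F, Q, hP, fun _ h => hdZ ⟨hd.1, mem_centralizer_iff.2 fun y hy =>
        (mem_centralizer_iff.1 (h hy) d hdF).symm⟩⟩
    push Not at hex
    exfalso
    have hAQ : A ≤ normalizer (Q : Set G) := hRQ ▸ hAR
    have huQ := L.u_normalizer_core
    have hVZ : V ≤ Z := le_inf L.four_le_core fun v hv => mem_centralizer_iff.2 fun y hy =>
      (mem_centralizer_iff.1 (hQV hy) v hv).symm
    have hnZ : ∀ g ∈ normalizer (Q : Set G), g ∈ normalizer (Z : Set G) := fun g hg =>
      mem_normalizer_of_map_mem fun y hy => ⟨conj_mem_of_mem_normalizer hg hy.1,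
        conj_mem_of_mem_normalizer (mem_normalizer_centralizer hg) hy.2⟩
    have h := eq_of_fixed_le hA9 hAQ (fun a ha => hnZ a (hAQ ha)) (inf_le_left : Z ≤ Q)
      fun a ha ha1 d hd had => by
        by_cases hdV : d ∈ V
        · exact hVZ hdV
        · exact hex a ha ha1 d (hRQ.ge hd) hdV had
    have hZQ : Z = Q := by
      rcases L.card_cases hVZ inf_le_left (hnZ u huQ) with e | e | e
      · rw [hQ.card, e] at h; norm_num at h
      · rw [hQ.card, e] at h; norm_num at h
      · exact Subgroup.eq_of_le_of_card_ge inf_le_left (by rw [e, hQ.card])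
    have hc : ∀ x ∈ Q, ∀ y ∈ Q, Commute x y := fun x hx y hy =>
      (mem_centralizer_iff.1 (hZQ.ge hy).2 x hx)
    let O : Subgroup G :=
      { carrier := {x | x ∈ Q ∧ x * x = 1}
        one_mem' := ⟨Q.one_mem, one_mul 1⟩
        mul_mem' := fun {a b} ha hb => ⟨Q.mul_mem ha.1 hb.1, by
          rw [show a * b * (a * b) = a * (b * a) * b by group, ← (hc a ha.1 b hb.1).eq,
            show a * (a * b) * b = (a * a) * (b * b) by group, ha.2, hb.2, one_mul]⟩
        inv_mem' := fun {a} ha => ⟨Q.inv_mem ha.1, by rw [← mul_inv_rev, ha.2, inv_one]⟩ }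
    have hVO : V ≤ O := fun v hv => ⟨L.four_le_core hv, hV.sq v hv⟩
    have hnO : ∀ g ∈ normalizer (Q : Set G), g ∈ normalizer (O : Set G) := fun g hg =>
      mem_normalizer_of_map_mem fun y hy => ⟨conj_mem_of_mem_normalizer hg hy.1, by
        rw [show g * y * g⁻¹ * (g * y * g⁻¹) = g * (y * y) * g⁻¹ by group, hy.2]; group⟩
    have h' := eq_of_fixed_le hA9 hAQ (fun a ha => hnO a (hAQ ha)) (fun x hx => hx.1 : O ≤ Q)
      fun a ha ha1 d hd had => by
        by_cases hdV : d ∈ V
        · exact hVO hdV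
        · obtain ⟨F, hP, hdF⟩ := L.pair_of_fixed hF hAu hA9 huA ha ha1 (hRQ.ge hd) hdV had
          exact ⟨hd, hP.fourk.sq d hdF⟩
    have hOQ : O = Q := by
      rcases L.card_cases hVO (fun x hx => hx.1) (hnO u huQ) with e | e | e
      · rw [hQ.card, e] at h'; norm_num at h'
      · rw [hQ.card, e] at h'; norm_num at h'
      · exact Subgroup.eq_of_le_of_card_ge (fun x hx => hx.1) (by rw [e, hQ.card])
    exact not_elementary hF L hc fun x hx => (hOQ.ge hx).2

end CfsgLib.Char.MTwentyTwoOrder
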