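import Cfsg.Agent.Lib.Char.MTwentyTwoOrder.Local.Select

/-!
# Simple groups of order 443520: an elementary abelian subgroup of order 16 with normalizer of order 5760
-/

set_option autoImplicit false
set_option linter.all false

open Subgroup MulAction
open scoped Pointwise

namespace CfsgLib.Char.MTwentyTwoOrder

universe u

variable {G : Type u} [Group G] [Finite G]

variable (hF : Facts G)

include hF in
/-- No subgroup has order 2880. -/
theorem not_2880 (N : Subgroup G) (hN : Nat.card N = 2880) : False := by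
  classical
  haveI := Fact.mk Nat.prime_five
  haveI := Fact.mk Nat.prime_three
  let P : Sylow 5 N := default
  have hP : Nat.card (P : Subgroup N) = 5 := by
    simpa using card_sylow_eq (a := 1) (m := 576) P (by rw [hN]; norm_num) (by norm_num)
  obtain ⟨y, hy⟩ := exists_prime_orderOf_dvd_card' (G := (P : Subgroup N)) 5 (by rw [hP])
  have hyo : orderOf ((y : N) : G) = 5 := by rw [Subgroup.orderOf_coe, Subgroup.orderOf_coe, hy]
  set P' : Subgroup G := (P : Subgroup N).map N.subtype with hP'
  have hP'c : Nat.card P' = 5 := by rw [hP', card_map_of_injective N.subtype_injective, hP]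
  -- the normalizer of `P` is `P`
  set NP := normalizer ((P : Subgroup N) : Set N) with hNP
  have hle : NP.map N.subtype ≤ normalizer (P' : Set G) := by
    rintro _ ⟨z, hz, rfl⟩
    refine mem_normalizer_of_map_mem fun w hw => ?_
    obtain ⟨w', hw', rfl⟩ := hw
    exact ⟨z * w' * z⁻¹, (mem_normalizer_iff.1 hz w').1 hw', rfl⟩
  have h20 := Subgroup.card_dvd_of_le hle
  rw [hF.norm_five P' hP'c, card_map_of_injective N.subtype_injective] at h20
  have h5 := Subgroup.card_dvd_of_le (le_normalizer : (P : Subgroup N) ≤ NP)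
  rw [hP] at h5
  have hidx := NP.card_mul_index
  rw [hN] at hidx
  have hmod := card_sylow_modEq_one 5 N
  rw [P.card_eq_index_normalizer] at hmod
  change NP.index % 5 = 1 % 5 at hmod
  have hNP5 : Nat.card NP = 5 := by
    have hle20 := Nat.le_of_dvd (by norm_num) h20
    interval_cases hc : Nat.card NP <;> omega
  have hNPP : NP = (P : Subgroup N) := (Subgroup.eq_of_le_of_card_ge le_normalizer (by rw [hNP5, hP])).symm
  haveI : IsCyclic (P : Subgroup N) := isCyclic_of_prime_card hP
  have hcent : NP ≤ centralizer ((P : Subgroup N) : Set N) := hNPP.le.trans (Subgroup.le_centralizer _)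
  have hK := MonoidHom.ker_transferSylow_isComplement' P hcent
  set K := (MonoidHom.transferSylow P hcent).ker with hKdef
  have hKc : Nat.card K = 576 := by
    have h := hK.card_mul
    rw [hP, hN] at h
    omega
  haveI hKn : K.Normal := MonoidHom.normal_ker _
  -- a Sylow 3-subgroup of the complement normalized by an element of order five
  let R : Sylow 3 K := default
  have hR : Nat.card (R : Subgroup K) = 9 :=
    card_sylow_eq (a := 2) (m := 64) R (by rw [hKc]; norm_num) (by norm_num)
  have htop := Sylow.normalizer_sup_eq_top R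
  set R' := (R : Subgroup K).map K.subtype with hR'
  set M := normalizer (R' : Set N) with hM
  have h5M : 5 ∣ Nat.card M := by
    have h1 : K.relIndex M = 5 := by
      rw [← Subgroup.relIndex_sup_right (H := M) (K := K)] 
      rw [htop, Subgroup.relIndex_top_right]
      have h := K.card_mul_index
      rw [hKc, hN] at h
      omega
    have h := Subgroup.card_mul_index (K.subgroupOf M)
    rw [← h]
    exact dvd_mul_of_dvd_right (dvd_of_eq h1.symm) _
  obtain ⟨z, hz⟩ := exists_prime_orderOf_dvd_card' (G := M) 5 h5M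
  set Rg := R'.map N.subtype with hRg
  have hzo : orderOf (((z : N)) : G) = 5 := by rw [Subgroup.orderOf_coe, Subgroup.orderOf_coe, hz]
  have hzR : ((z : N) : G) ∈ normalizer (Rg : Set G) := mem_normalizer_of_map_mem fun w hw => by
    obtain ⟨w', hw', rfl⟩ := hw
    exact ⟨(z : N) * w' * (z : N)⁻¹, (mem_normalizer_iff.1 z.2 w').1 hw', rfl⟩
  have hRgc : Nat.card Rg = 9 := by
    rw [hRg, card_map_of_injective N.subtype_injective, hR', card_map_of_injective K.subtype_injective, hR]
  obtain ⟨x, hx, hx1, hxc⟩ := exists_fixed hzo hzR (by rw [hRgc]; decide)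
  have h9 : orderOf x ∣ 9 := hRgc ▸ Subgroup.orderOf_dvd_natCard Rg hx
  have h55 : orderOf x ∣ 5 := hF.cent_five _ hzo ▸
    Subgroup.orderOf_dvd_natCard _ (mem_centralizer_singleton_iff.2 hxc.symm.eq)
  have := Nat.dvd_gcd h9 h55
  norm_num at this
  exact hx1 this

namespace Pair

variable {u k t : G} {V F Q : Subgroup G} (P : Pair u k t V F Q)
include P

include hF in
theorem cent_sup_le (hgood : Q ≤ centralizer (V : Set G) → ¬ Q ≤ centralizer (F : Set G)) :
    centralizer ((V ⊔ F : Subgroup G) : Set G) ≤ V ⊔ F := by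
  haveI := Fact.mk Nat.prime_two
  haveI := Fact.mk Nat.prime_three
  set C := centralizer ((V ⊔ F : Subgroup G) : Set G) with hC
  have htE : t ∈ V ⊔ F := mem_sup_left P.mem
  have hCt : C ≤ centralizer ({t} : Set G) := fun y hy =>
    mem_centralizer_singleton_iff.2 (mem_centralizer_iff.1 hy t htE).symm
  have h3 : ¬ 3 ∣ Nat.card C := by
    intro h3
    obtain ⟨x, hx⟩ := exists_prime_orderOf_dvd_card' (G := C) 3 h3
    obtain ⟨W, hW⟩ := exists_four hF (u := (x : G)) (by rw [Subgroup.orderOf_coe, hx])
    have hle := hW.two (V ⊔ F) (fun y hy => mem_centralizer_singleton_iff.2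
      (mem_centralizer_iff.1 x.2 y hy)) (P.core.pgroup.to_le P.sup_le_core)
    have := Subgroup.card_le_of_le hle
    rw [P.card_sup, hW.card] at this
    omega
  have hCp : IsPGroup 2 C := by
    have hd := Subgroup.card_dvd_of_le hCt
    rw [hF.cent_invol t P.toLocal.orderOf_t] at hd
    have h128 : Nat.card C ∣ 2 ^ 7 :=
      ((Nat.Prime.coprime_iff_not_dvd Nat.prime_three).2 h3).symm.dvd_of_dvd_mul_right
        (show Nat.card C ∣ 128 * 3 by norm_num; exact hd)
    obtain ⟨j, -, hj⟩ := (Nat.dvd_prime_pow Nat.prime_two).1 h128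
    exact IsPGroup.of_card hj
  have huC : u ∈ normalizer (C : Set G) := mem_normalizer_centralizer P.u_norm_sup
  have hCQ : C ≤ Q := P.core.two u P.toLocal.u_mem P.hu C hCt hCp huC
  have hEC : V ⊔ F ≤ C := fun y hy => mem_centralizer_iff.2 fun z hz => (P.sup_comm_elem hz hy).eq
  have h16 := Subgroup.card_le_of_le hEC
  rw [P.card_sup] at h16
  rcases P.toLocal.card_cases (le_sup_left.trans hEC) hCQ huC with h | h | h
  · omega
  · exact (Subgroup.eq_of_le_of_card_ge hEC (by rw [h, P.card_sup])).ge
  · have hQC : Q ≤ C := (Subgroup.eq_of_le_of_card_ge hCQ (by rw [h, P.core.card])).ge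
    refine absurd (fun y hy => mem_centralizer_iff.2 fun f hf => ?_) (hgood fun y hy =>
      mem_centralizer_iff.2 fun v hv => mem_centralizer_iff.1 (hQC hy) v (mem_sup_left hv))
    exact mem_centralizer_iff.1 (hQC hy) f (mem_sup_right hf)

include hF in
/-- The normalizer moves the four group out of the union of the two four groups. -/
theorem not_invariant (hgood : Q ≤ centralizer (V : Set G) → ¬ Q ≤ centralizer (F : Set G))
    (hU : ∀ g ∈ normalizer ((V ⊔ F : Subgroup G) : Set G), ∀ v ∈ V, g * v * g⁻¹ ∈ V ∨ g * v * g⁻¹ ∈ F) :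
    False := by
  haveI := Fact.mk Nat.prime_two
  haveI := Fact.mk Nat.prime_three
  have himg : ∀ g ∈ normalizer ((V ⊔ F : Subgroup G) : Set G),
      g ∈ normalizer (V : Set G) ∨ V.map (MulAut.conj g).toMonoidHom ≤ F := by
    intro g hg
    have hor := le_or_le_of_subset_union (X := V.map (MulAut.conj g).toMonoidHom) (A := V) (B := F)
      fun x hx => by
        obtain ⟨v, hv, rfl⟩ := conj_mem_map.1 hx
        exact hU g hg v hv
    rcases hor with h | h
    · exact Or.inl (mem_normalizer_of_map_mem fun y hy => h (conj_mem_map.2 ⟨y, hy, rfl⟩))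
    · exact Or.inr h
  have hfix : ∀ x ∈ Q, x * t * x⁻¹ = t := fun x hx =>
    mul_inv_eq_iff_eq_mul.2 (mem_centralizer_singleton_iff.1 (P.core.le hx))
  have hQN : Q ≤ normalizer (V : Set G) := fun q hq => by
    rcases himg q (P.core_le_normalizer hq) with h | h
    · exact h
    · exfalso
      have ht : t ∈ V ⊓ F := ⟨P.mem, h (conj_mem_map.2 ⟨t, P.mem, hfix q hq⟩)⟩
      rw [P.disjoint, mem_bot] at ht
      exact P.ne ht
  have hQV : Q ≤ centralizer (V : Set G) := by
    have h := card_le_two_mul_centralizer P.four.card hQN P.mem P.toLocal.orderOf_t hfix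
    rw [P.core.card] at h
    rcases P.toLocal.card_cases P.toLocal.four_le_R inf_le_left P.toLocal.u_normalizer_R with e | e | e
    · omega
    · omega
    · exact inf_eq_left.1 (Subgroup.eq_of_le_of_card_ge inf_le_left (by rw [e, P.core.card]))
  obtain ⟨a, ha, haQ⟩ : ∃ a ∈ F, ¬ Q ≤ centralizer ({a} : Set G) := by
    by_contra h
    push Not at h
    exact hgood hQV fun q hq => mem_centralizer_iff.2 fun f hf =>
      (mem_centralizer_singleton_iff.1 (h f hf hq)).symm
  have ha1 : a ≠ 1 := fun e => haQ (by subst e; exact fun q _ => mem_centralizer_singleton_iff.2 (by simp))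
  have hao : orderOf a = 2 := orderOf_eq_prime (by rw [pow_two, P.fourk.sq a ha]) ha1
  obtain ⟨Q', hQ'⟩ := exists_core hF hao
  have S := P.swap ha ha1 hQ'
  have hfix' : ∀ x ∈ Q', x * a * x⁻¹ = a := fun x hx =>
    mul_inv_eq_iff_eq_mul.2 (mem_centralizer_singleton_iff.1 (hQ'.le hx))
  have hQ'N : Q' ≤ normalizer (V : Set G) := fun q hq => by
    rcases himg q (by rw [sup_comm]; exact S.core_le_normalizer hq) with h | h
    · exact h
    · exfalso
      have hmap : V.map (MulAut.conj q).toMonoidHom = F := Subgroup.eq_of_le_of_card_ge h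
        (by rw [card_map_of_injective (MulAut.conj q).injective, P.four.card, P.fourk.card])
      obtain ⟨v, hv, hv'⟩ := conj_mem_map.1 (hmap.ge ha)
      have he : v = a := by
        have := hv'.trans (hfix' q hq).symm
        exact mul_left_cancel (mul_right_cancel this)
      have hbot : a ∈ V ⊓ F := ⟨he ▸ hv, ha⟩
      rw [P.disjoint, mem_bot] at hbot
      exact ha1 hbot
  have hQ'V : Q' ≤ centralizer (V : Set G) := by
    -- a common fixed involution
    letI act : MulAction Q' V := MulAction.compHom _ ((normalizerMonoidHom V).comp (inclusion hQ'N))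
    have h1 : (1 : V) ∈ MulAction.fixedPoints Q' V := fun q =>
      Subtype.ext (show (q : G) * 1 * (q : G)⁻¹ = 1 by group)
    obtain ⟨t', ht', ht'1⟩ := hQ'.pgroup.exists_fixed_point_of_prime_dvd_card_of_fixed_point V
      (by rw [P.four.card]; norm_num) h1
    have h := card_le_two_mul_centralizer P.four.card hQ'N t'.2
      (orderOf_eq_prime (by rw [pow_two, P.four.sq t' t'.2]) fun e => ht'1 (Subtype.ext e).symm)
      fun x hx => congrArg Subtype.val (ht' ⟨x, hx⟩)
    rw [hQ'.card] at h
    have hkX : k ∈ normalizer ((Q' ⊓ centralizer (V : Set G) : Subgroup G) : Set G) :=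
      mem_normalizer_of_map_mem fun y hy =>
        ⟨conj_mem_of_mem_normalizer S.toLocal.u_normalizer_core hy.1,
          conj_mem_of_mem_normalizer (mem_normalizer_centralizer (P.four.norm P.k_mem)) hy.2⟩
    have hFX : F ≤ Q' ⊓ centralizer (V : Set G) := le_inf S.toLocal.four_le_core fun f hf =>
      mem_centralizer_iff.2 fun v hv => (P.cent v hv f hf).eq
    rcases S.toLocal.card_cases hFX inf_le_left hkX with e | e | e
    · omega
    · omega
    · exact inf_eq_left.1 (Subgroup.eq_of_le_of_card_ge inf_le_left (by rw [e, hQ'.card]))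
  -- two different cores inside one centralizer
  have hQ'C : Q' ≤ centralizer ({t} : Set G) := fun y hy =>
    mem_centralizer_singleton_iff.2 (mem_centralizer_iff.1 (hQ'V hy) t P.mem).symm
  set D := Q' ⊓ Q with hD
  have hD32 : 32 ≤ Nat.card D := by
    have h := card_mul_le (le_sup_left : Q' ≤ Q' ⊔ Q) (le_sup_right : Q ≤ Q' ⊔ Q)
    rw [hQ'.card, P.core.card] at h
    have h2 := card_two_group_le hF P.toLocal.orderOf_t (sup_le hQ'C P.core.le)
      (IsPGroup.to_sup_of_normal_right' hQ'.pgroup P.core.pgroup (hQ'C.trans P.core.norm))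
    rw [← hD] at h
    nlinarith
  have hkD : k ∈ normalizer (D : Set G) := mem_normalizer_of_map_mem fun y hy => by
    refine ⟨conj_mem_of_mem_normalizer S.toLocal.u_normalizer_core hy.1, ?_⟩
    have h := conj_mem_of_mem_normalizer (P.toLocal.R_invariant P.k_mem)
      (show y ∈ Q ⊓ centralizer (V : Set G) from ⟨hy.2, hQV hy.2⟩)
    exact h.1
  rcases S.toLocal.card_cases (le_inf S.toLocal.four_le_core P.le_core) inf_le_left hkD with e | e | e
  · rw [← hD] at e; omega
  · rw [← hD] at e; omega
  · have hQQ : Q' ≤ Q := inf_eq_left.1 (Subgroup.eq_of_le_of_card_ge inf_le_left (by rw [e, hQ'.card]))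
    exact haQ ((Subgroup.eq_of_le_of_card_ge hQQ (by rw [hQ'.card, P.core.card])).ge.trans hQ'.le)

include hF in
theorem card_normalizer_sup (hgood : Q ≤ centralizer (V : Set G) → ¬ Q ≤ centralizer (F : Set G)) :
    Nat.card (normalizer ((V ⊔ F : Subgroup G) : Set G)) = 5760 := by
  classical
  haveI := Fact.mk Nat.prime_two
  haveI := Fact.mk Nat.prime_three
  set N := normalizer ((V ⊔ F : Subgroup G) : Set G) with hN
  set A := zpowers k ⊔ zpowers u with hA
  have huk : A ≤ centralizer ({u} : Set G) := sup_le (zpowers_le.2 P.k_mem)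
    (zpowers_le.2 (mem_centralizer_singleton_iff.2 rfl))
  have hku : A ≤ centralizer ({k} : Set G) := sup_le (zpowers_le.2 (mem_centralizer_singleton_iff.2 rfl))
    (zpowers_le.2 P.u_mem')
  have hAN : A ≤ N := fun w hw => P.norm_sup (huk hw) (hku hw)
  have hA9 : Nat.card A = 9 := by
    have hp : IsPGroup 3 A := IsPGroup.to_sup_of_normal_right'
      (IsPGroup.of_card (n := 1) (by rw [Nat.card_zpowers, P.hk, pow_one]))
      (IsPGroup.of_card (n := 1) (by rw [Nat.card_zpowers, P.hu, pow_one]))
      (zpowers_le.2 (centralizer_le_normalizer _ (mem_centralizer_iff.2 fun y hy => by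
        obtain ⟨n, rfl⟩ := mem_zpowers_iff.1 hy
        exact (P.comm.zpow_left n).eq)))
    obtain ⟨n, hn⟩ := IsPGroup.iff_card.1 hp
    have hd := cent_dvd_thirty_six hF P.hu huk
    rw [hn] at hd
    have h3 : 3 < Nat.card A := by
      by_contra h
      have : zpowers u = A := Subgroup.eq_of_le_of_card_ge le_sup_right
        (by rw [Nat.card_zpowers, P.hu]; omega)
      exact P.notMem (this.ge (mem_sup_left (mem_zpowers k)))
    have hn2 : n ≤ 2 := by
      by_contra h
      have := (Nat.pow_dvd_pow 3 (show 3 ≤ n by omega)).trans hd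
      norm_num at this
    rw [hn] at h3 ⊢
    interval_cases n <;> first | rfl | (norm_num at h3)
  -- fixed points of `A`
  have hordA : ∀ a ∈ A, orderOf a ∣ 9 := fun a ha => hA9 ▸ Subgroup.orderOf_dvd_natCard A ha
  set O := (fun h => h * t * h⁻¹) '' (N : Set G) with hO
  have hOE : O ⊆ ((V ⊔ F : Subgroup G) : Set G) \ {1} := by
    rintro _ ⟨h, hh, rfl⟩
    exact ⟨conj_mem_of_mem_normalizer hh (mem_sup_left P.mem), fun e => P.ne (conj_eq_one_iff.1 e)⟩
  have hO15 : O.ncard ≤ 15 := by
    have h := Set.ncard_le_ncard hOE (Set.toFinite _)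
    rwa [Set.ncard_sdiff_singleton_of_mem (show (1 : G) ∈ ((V ⊔ F : Subgroup G) : Set G) from one_mem _),
      show ((V ⊔ F : Subgroup G) : Set G).ncard = 16 from
        (Nat.card_coe_set_eq _).symm.trans P.card_sup] at h
  -- the stabilizer
  set c := Nat.card ↥(N ⊓ centralizer ({t} : Set G)) with hc
  have hcard := card_eq_orbit_mul N t
  rw [← hO, ← hc] at hcard
  have hc192 : 192 ∣ c := by
    have h1 : 64 ∣ c := by
      rw [hc, ← P.core.card]
      exact Subgroup.card_dvd_of_le (le_inf P.core_le_normalizer P.core.le)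
    have h2 : 3 ∣ c := by
      rw [hc, ← P.hu]
      exact Subgroup.orderOf_dvd_natCard _ ⟨P.u_norm_sup, P.toLocal.u_mem⟩
    exact (show Nat.Coprime 64 3 by norm_num).mul_dvd_of_dvd_of_dvd h1 h2
  have hc384 : c ∣ 384 := hF.cent_invol t P.toLocal.orderOf_t ▸ Subgroup.card_dvd_of_le inf_le_right
  have h9 := Subgroup.card_dvd_of_le hAN
  have hG := Subgroup.card_subgroup_dvd_card N
  rw [hA9] at h9
  rw [hF.card_eq] at hG
  -- the orbit contains the four group
  have hkV : k ∈ normalizer (V : Set G) := P.four.norm P.k_mem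
  have hkt : ¬ Commute k t := fun h =>
    P.ne (P.four.fixed k P.k_mem (by rw [P.hk]; norm_num) P.notMem t P.mem h)
  have hk3 : k ^ 3 = 1 := P.hk ▸ pow_orderOf_eq_one k
  have hVO : ∀ v ∈ V, v ≠ 1 → v ∈ O := by
    intro v hv hv1
    set t₁ := k * t * k⁻¹ with ht₁
    set t₂ := k⁻¹ * t * k with ht₂
    have hm1 : t₁ ∈ O := ⟨k, P.k_norm_sup, rfl⟩
    have hm2 : t₂ ∈ O := ⟨k⁻¹, N.inv_mem P.k_norm_sup, by simp [ht₂]⟩
    have hm0 : t ∈ O := ⟨1, N.one_mem, by simp⟩
    have n1 : t₁ ≠ t := fun e => hkt (mul_inv_eq_iff_eq_mul.1 e)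
    have n2 : t₂ ≠ t := fun e => hkt (by
      have : t * k = k * t := by
        conv_rhs => rw [← e, ht₂]
        group
      exact this.symm)
    have n3 : t₁ ≠ t₂ := fun e => n2 (by
      calc t₂ = k⁻¹ * t * k := ht₂
        _ = k ^ 2 * t * (k ^ 2)⁻¹ := by
          rw [inv_eq_of_mul_eq_one_right (show k * k ^ 2 = 1 by rw [← pow_succ', hk3]),
            inv_eq_of_mul_eq_one_right (show k ^ 2 * k = 1 by rw [← pow_succ, hk3])]
        _ = k * t₁ * k⁻¹ := by rw [ht₁, pow_two, mul_inv_rev]; group
        _ = k * t₂ * k⁻¹ := by rw [e]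
        _ = t := by rw [ht₂]; group)
    have hsub : ({1, t, t₁, t₂} : Set G) ⊆ V := by
      rintro z (rfl | rfl | rfl | rfl)
      · exact V.one_mem
      · exact P.mem
      · exact conj_mem_of_mem_normalizer hkV P.mem
      · exact (mem_normalizer_iff''.1 hkV t).1 P.mem
    have hne : ∀ z ∈ O, z ≠ (1 : G) := fun z hz => (hOE hz).2
    have h4 : ({1, t, t₁, t₂} : Set G).ncard = 4 :=
      Set.ncard_eq_four.2 ⟨1, t, t₁, t₂, (hne _ hm0).symm, (hne _ hm1).symm, (hne _ hm2).symm,
        n1.symm, n2.symm, n3, rfl⟩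
    have heq := Set.eq_of_subset_of_ncard_le hsub (by
      rw [h4, ← Nat.card_coe_set_eq]; exact P.four.card.le) (Set.toFinite _)
    have hv' : v ∈ ({1, t, t₁, t₂} : Set G) := heq.symm ▸ hv
    rcases hv' with rfl | rfl | rfl | rfl
    · exact absurd rfl hv1
    all_goals assumption
  have hsplit : O.ncard ≤ 6 → False := by
    intro h6
    refine P.not_invariant hF hgood fun g hg v hv => ?_
    by_cases hv1 : v = 1
    · subst hv1; left; simp [V.one_mem]
    set D := O \ ((V : Set G) ∪ (F : Set G)) with hD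
    have hD0 : D = ∅ := by
      have hfree : Nat.card A ∣ D.ncard := by
        refine card_dvd_of_free A D (fun a ha d hd => ?_) fun a ha ha1 d hd he => ?_
        · obtain ⟨⟨h, hh, rfl⟩, hd2⟩ := hd
          refine ⟨⟨a * h, N.mul_mem (hAN ha) hh, by group⟩, fun hmem => hd2 ?_⟩
          rcases hmem with hm | hm
          · exact Or.inl ((mem_normalizer_iff.1 (P.four.norm (huk ha)) _).2 hm)
          · exact Or.inr ((mem_normalizer_iff.1 (P.fourk.norm (hku ha)) _).2 hm)
        · obtain ⟨hd1, hd2⟩ := hd
          obtain ⟨v', hv', f', hf', rfl⟩ := P.mem_sup_iff.1 (hOE hd1).1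
          have hva := conj_mem_of_mem_normalizer (P.four.norm (huk ha)) hv'
          have hfa := conj_mem_of_mem_normalizer (P.fourk.norm (hku ha)) hf'
          have he' : (a * v' * a⁻¹) * (a * f' * a⁻¹) = v' * f' := by rw [← he]; group
          have h0 : v'⁻¹ * (a * v' * a⁻¹) = f' * (a * f' * a⁻¹)⁻¹ := by
            rw [eq_mul_inv_iff_mul_eq, mul_assoc, he', inv_mul_cancel_left]
          have hb : v'⁻¹ * (a * v' * a⁻¹) ∈ V ⊓ F :=
            ⟨V.mul_mem (V.inv_mem hv') hva, h0.symm ▸ F.mul_mem hf' (F.inv_mem hfa)⟩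
          rw [P.disjoint, mem_bot] at hb
          have hvfix : Commute a v' := mul_inv_eq_iff_eq_mul.1 (inv_mul_eq_one.1 hb).symm
          have hffix : Commute a f' := mul_inv_eq_iff_eq_mul.1 (by
            rw [hb] at h0
            exact (mul_inv_eq_one.1 h0.symm).symm)
          have hau : a ∈ zpowers u := by
            by_contra hc'
            have := P.four.fixed a (huk ha) (hordA a ha) hc' v' hv' hvfix
            exact hd2 (Or.inr (by rw [this, one_mul]; exact hf'))
          have hak : a ∈ zpowers k := by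
            by_contra hc'
            have := P.fourk.fixed a (hku ha) (hordA a ha) hc' f' hf' hffix
            exact hd2 (Or.inl (by rw [this, mul_one]; exact hv'))
          refine P.notMem ?_
          have ho : orderOf a = 3 := by
            rcases (Nat.dvd_prime Nat.prime_three).1 (P.hu ▸ orderOf_dvd_of_mem_zpowers hau) with e | e
            · exact absurd (orderOf_eq_one_iff.1 e) ha1
            · exact e
          have e1 : zpowers a = zpowers u := Subgroup.eq_of_le_of_card_ge (zpowers_le.2 hau)
            (by rw [Nat.card_zpowers, Nat.card_zpowers, ho, P.hu])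
          have e2 : zpowers a = zpowers k := Subgroup.eq_of_le_of_card_ge (zpowers_le.2 hak)
            (by rw [Nat.card_zpowers, Nat.card_zpowers, ho, P.hk])
          rw [← e1, e2]
          exact mem_zpowers k
      have hle : D ⊆ O \ ((V : Set G) \ {1}) := fun z hz => ⟨hz.1, fun h => hz.2 (Or.inl h.1)⟩
      have hsub : (V : Set G) \ {1} ⊆ O := fun z hz => hVO z hz.1 hz.2
      have h3 : ((V : Set G) \ {1}).ncard = 3 := by
        rw [Set.ncard_sdiff_singleton_of_mem (show (1 : G) ∈ (V : Set G) from V.one_mem),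
          ← Nat.card_coe_set_eq, show Nat.card ↥(V : Set G) = 4 from P.four.card]
      have h := Set.ncard_le_ncard hle (Set.toFinite _)
      rw [Set.ncard_sdiff hsub, h3] at h
      rw [hA9] at hfree
      refine (Set.ncard_eq_zero (Set.toFinite _)).1 ?_
      omega
    obtain ⟨h, hh, hhv⟩ := hVO v hv hv1
    have hgv : g * v * g⁻¹ ∈ O := ⟨g * h, N.mul_mem hg hh, by rw [← hhv]; group⟩
    by_contra hne
    push Not at hne
    exact (Set.eq_empty_iff_forall_notMem.1 hD0) _
      ⟨hgv, fun hm => hm.elim hne.1 hne.2⟩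
  rw [hcard] at h9 hG
  have hc' : c = 192 ∨ c = 384 := by
    obtain ⟨j, hj⟩ := hc192
    have := Nat.le_of_dvd (by norm_num) hc384
    have : 0 < c := Nat.card_pos
    omega
  rcases hc' with e | e <;> rw [e] at h9 hG hcard <;>
    interval_cases hn : O.ncard <;>
    first
      | (rw [hcard]; done)
      | (exfalso; revert h9 hG; norm_num; done)
      | (exfalso; apply hsplit; norm_num; done)
      | (exfalso; apply not_2880 hF N; rw [hcard]; done)

end Pair

include hF in
/-- An elementary abelian self-centralizing subgroup of order 16 with normalizer of index 77. -/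
theorem exists_sixteen : ∃ E : Subgroup G, Nat.card E = 16 ∧
    centralizer (E : Set G) ≤ E ∧ Nat.card (normalizer (E : Set G)) = 5760 := by
  obtain ⟨u, k, t, V, F, Q, P, hgood⟩ := exists_pair hF
  exact ⟨V ⊔ F, P.card_sup, P.cent_sup_le hF hgood, P.card_normalizer_sup hF hgood⟩

end CfsgLib.Char.MTwentyTwoOrder
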