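import Cfsg.Agent.Lib.Char.MTwentyTwoOrder.Local.Rank
import Cfsg.Agent.Lib.Spor.PlaneFour.Aut22
import Cfsg.Agent.S0429
import Cfsg.Prelude.Def_Spor_Mathieu
import Cfsg.Agent.Lib.Spor.JFourType.Facts22

/-!
# Simple groups of order 443520: the identification with the Mathieu group
-/

set_option autoImplicit false
set_option linter.all false

open Subgroup MulAction Finset
open scoped Pointwise

namespace CfsgLib.Char.MTwentyTwoOrder

universe u

/-- Two simple groups of order 443520 embedded with index two are isomorphic. -/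
theorem range_eq_of_index_two {A X : Type*} [Group A] [Finite A] [Group X] [IsSimpleGroup X] {M : Subgroup A}
    (hM : M.index = 2) (hMc : Nat.card M = 443520) (hX : Nat.card X = 443520) (ι : X →* A)
    (hι : Function.Injective ι) : ι.range = M := by
  haveI : M.Normal := Subgroup.normal_of_index_eq_two hM
  haveI : Finite X := Nat.finite_of_card_ne_zero (by rw [hX]; norm_num)
  refine Subgroup.eq_of_le_of_card_ge ?_ (by rw [hMc, Nat.card_congr (MonoidHom.ofInjective hι).symm.toEquiv, hX])
  rcases (inferInstance : (M.comap ι).Normal).eq_bot_or_eq_top with h | h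
  · exfalso
    have hinj : Function.Injective ((QuotientGroup.mk' M).comp ι) := by
      rw [← MonoidHom.ker_eq_bot_iff, ← MonoidHom.comap_ker, QuotientGroup.ker_mk', h]
    have h2 := Nat.card_le_card_of_injective _ hinj
    rw [hX, ← Subgroup.index_eq_card, hM] at h2
    omega
  · rintro _ ⟨x, rfl⟩
    exact Subgroup.mem_comap.1 (h ▸ Subgroup.mem_top x)

/-- The point stabiliser model of the Mathieu group. -/
theorem nonempty_twoPoint_equiv_M22 :
    Nonempty (↥(stabilizer Cfsg.M24 (none : Cfsg.GolayPt) ⊓ stabilizer Cfsg.M24 (some 0 : Cfsg.GolayPt)) ≃*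
      ↥Cfsg.Spor.M22) := by
  refine ⟨(Subgroup.equivMapOfInjective _ _ Cfsg.M24.subtype_injective).trans (MulEquiv.subgroupCongr ?_)⟩
  ext g
  rw [Subgroup.map_inf _ _ _ Cfsg.M24.subtype_injective, Subgroup.mem_inf,
    CfsgLib.Spor.mem_map_stabilizer, CfsgLib.Spor.mem_map_stabilizer, CfsgLib.Spor.OuterAut.mem_M22]
  exact ⟨fun h => ⟨h.1.1, h.1.2, h.2.2⟩, fun h => ⟨⟨h.1, h.2.1⟩, h.1, h.2.2⟩⟩

open CfsgLib.Spor CfsgLib.Spor.Plane CfsgLib.Spor.Search Cfsg in
/-- A simple group of order 443520 preserving a system `S(3,6,22)` faithfully is the Mathieu group. -/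
theorem isoM22_of_embedding {α : Type*} [Fintype α] [DecidableEq α] {B : Set (Finset α)}
    (hα : Fintype.card α = 22) (hB : IsSteinerSystem 3 6 B) {X : Type u} [Group X] [IsSimpleGroup X]
    (hX : Nat.card X = 443520) (ι : X →* Equiv.Perm α) (hι : Function.Injective ι)
    (hmem : ∀ x, ι x ∈ setSystemAut B) : Cfsg.Spor.IsoM22 X := by
  classical
  set p : GolayPt := none with hp
  set q : GolayPt := some 0 with hq
  have hpq : p ≠ q := by simp [hp, hq]
  obtain ⟨f', hf'⟩ := steiner22 (card_pairSystem_type hpq) (pairSystem_steiner hpq)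
  obtain ⟨f, hf⟩ := steiner22 hα hB
  obtain ⟨e, he⟩ := iso_of_fam f' hf' f hf
  set K := MulAction.stabilizer M24 p ⊓ MulAction.stabilizer M24 q with hK'
  have hK : K ≤ MulAction.stabilizer M24 ({p, q} : Finset GolayPt) := fun g hg => by
    rw [MulAction.mem_stabilizer_iff, smul_finset_insert, smul_finset_singleton,
      MulAction.mem_stabilizer_iff.1 hg.1, MulAction.mem_stabilizer_iff.1 hg.2]
  let φ := (CfsgLib.Spor.autEquiv e he).toMonoidHom.comp ((pairHom p q).codRestrict _ pairHom_mem)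
  have hφ : Function.Injective φ := (CfsgLib.Spor.autEquiv e he).injective.comp fun a b h =>
    pairHom_injective hpq (congrArg Subtype.val h)
  obtain ⟨-, -, M, hM, hMs⟩ := aut22 hα hB
  haveI : IsSimpleGroup K := Cfsg.Agent.S0379.result p q hpq
  have hKc : Nat.card K = 443520 := Cfsg.Agent.S0378.result p q hpq
  let ψ := φ.comp (Subgroup.inclusion hK)
  have hψ : Function.Injective ψ := hφ.comp (Subgroup.inclusion_injective hK)
  let ι' := ι.codRestrict _ hmem
  have hι' : Function.Injective ι' := fun a b h => hι (congrArg Subtype.val h)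
  have h1 := range_eq_of_index_two hM hMs.2 hKc ψ hψ
  have h2 := range_eq_of_index_two hM hMs.2 hX ι' hι'
  obtain ⟨e22⟩ := nonempty_twoPoint_equiv_M22
  exact ⟨(MonoidHom.ofInjective hι').trans ((MulEquiv.subgroupCongr (h2.trans h1.symm)).trans
    ((MonoidHom.ofInjective hψ).symm.trans e22))⟩

variable {G : Type u} [Group G] [Finite G]

section graph

open CfsgLib.Spor.Srg77 Cfsg.Agent.S0429

variable {V : Type u} [Fintype V] [DecidableEq V] [MulAction G V] (Γ : SimpleGraph V) [DecidableRel Γ.Adj]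
  (hadj : ∀ (g : G) (a b : V), Γ.Adj (g • a) (g • b) ↔ Γ.Adj a b)
include hadj

theorem image_mem_cocliques (g : G) {C : Finset V} (hC : C ∈ cocliques Γ) :
    C.image (g • ·) ∈ cocliques Γ := by
  obtain ⟨hc, hi⟩ := mem_cocliques.1 hC
  refine mem_cocliques.2 ⟨by rw [Finset.card_image_of_injective _ (MulAction.injective g), hc], ?_⟩
  simp only [Finset.mem_image]
  rintro _ ⟨a, ha, rfl⟩ _ ⟨b, hb, rfl⟩ h
  exact hi a ha b hb ((hadj g a b).1 h)

/-- The permutation of the co-cliques. -/
def coPerm (g : G) : Equiv.Perm (CoPt Γ) where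
  toFun C := ⟨C.1.image (g • ·), image_mem_cocliques Γ hadj g C.2⟩
  invFun C := ⟨C.1.image (g⁻¹ • ·), image_mem_cocliques Γ hadj g⁻¹ C.2⟩
  left_inv C := Subtype.ext (by simp [Finset.image_image, Function.comp_def])
  right_inv C := Subtype.ext (by simp [Finset.image_image, Function.comp_def])

theorem coPerm_mul (g h : G) : coPerm Γ hadj (g * h) = coPerm Γ hadj g * coPerm Γ hadj h :=
  Equiv.ext fun C => Subtype.ext (by simp [coPerm, Finset.image_image, Function.comp_def, mul_smul])

theorem blockOf_image (g : G) (v : V) :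
    (blockOf Γ v).image (coPerm Γ hadj g) = blockOf Γ (g • v) := by
  ext C
  simp only [blockOf, Finset.mem_image, Finset.mem_filter, Finset.mem_univ, true_and]
  constructor
  · rintro ⟨D, hD, rfl⟩
    exact Finset.mem_image.2 ⟨v, hD, rfl⟩
  · intro hC
    refine ⟨(coPerm Γ hadj g).symm C, ?_, Equiv.apply_symm_apply _ _⟩
    exact Finset.mem_image.2 ⟨g • v, hC, inv_smul_smul g v⟩

theorem isoM22_of_srg [IsSimpleGroup G] (hG : Nat.card G = 443520) (hsrg : Γ.IsSRGWith 77 16 0 4)
    (hmove : ∃ (g : G) (v : V), g • v ≠ v) : Cfsg.Spor.IsoM22 G := by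
  let φ : G →* Equiv.Perm (CoPt Γ) := MonoidHom.mk' (coPerm Γ hadj) (coPerm_mul Γ hadj)
  refine isoM22_of_embedding (card_pt hsrg) (steiner_blockOf hsrg) hG φ ?_ fun g => ?_
  · rw [← MonoidHom.ker_eq_bot_iff]
    refine (φ.normal_ker.eq_bot_or_eq_top).resolve_right fun htop => ?_
    obtain ⟨g, v, hgv⟩ := hmove
    have h1 : φ g = 1 := MonoidHom.mem_ker.1 (htop ▸ Subgroup.mem_top g)
    have h2 := blockOf_image Γ hadj g v
    rw [show coPerm Γ hadj g = 1 from h1, Equiv.Perm.coe_one, Finset.image_id] at h2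
    exact hgv (blockOf_injective hsrg h2).symm
  · rw [CfsgLib.Spor.mem_setSystemAut, ← Set.range_comp]
    refine Set.ext fun b => ⟨?_, ?_⟩
    · rintro ⟨v, rfl⟩
      exact ⟨g • v, (blockOf_image Γ hadj g v).symm⟩
    · rintro ⟨v, rfl⟩
      exact ⟨g⁻¹ • v, (blockOf_image Γ hadj g (g⁻¹ • v)).trans (by rw [smul_inv_smul])⟩

end graph

/-- The facts identify the Mathieu group. -/
theorem isoM22_of_facts [IsSimpleGroup G] (hF : Facts G) : Cfsg.Spor.IsoM22 G := by
  obtain ⟨H, hidx, hfin, hdec, hsrg⟩ := exists_srg hF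
  haveI hde : DecidableEq (G ⧸ H) := Classical.decEq _
  refine @isoM22_of_srg G _ _ (G ⧸ H) hfin hde _ (seventyGraph H) hdec (seventyGraph_smul (H := H)) _
    hF.card_eq ?_ ?_
  · convert hsrg using 1
  · obtain ⟨g, hg⟩ : ∃ g : G, g ∉ H := by
      by_contra hno
      push Not at hno
      have : H = ⊤ := eq_top_iff.2 fun g _ => hno g
      rw [this, Subgroup.index_top] at hidx
      norm_num at hidx
    refine ⟨g, ((1 : G) : G ⧸ H), fun e => hg ?_⟩
    rw [MulAction.Quotient.smul_coe, smul_eq_mul, mul_one, QuotientGroup.eq, mul_one, inv_mem_iff] at e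
    exact e

end CfsgLib.Char.MTwentyTwoOrder
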