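import Cfsg.Agent.Lib.Char.MTwentyTwoOrder.Local.Tools

/-!
# Simple groups of order 443520: two commuting elements of order three and their four groups
-/

set_option autoImplicit false
set_option linter.all false

open Subgroup MulAction
open scoped Pointwise

namespace CfsgLib.Char.MTwentyTwoOrder

universe u

variable {G : Type u} [Group G] [Finite G]

theorem isPGroup_four {V : Subgroup G} (h : Nat.card V = 4) : IsPGroup 2 V :=
  IsPGroup.of_card (p := 2) (n := 2) (by rw [h]; norm_num)

theorem four_comm {u : G} {V : Subgroup G} (hV : IsFourOf u V) {x y : G} (hx : x ∈ V) (hy : y ∈ V) :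
    Commute x y := by
  have h1 := hV.sq x hx
  have h2 := hV.sq y hy
  have h3 := hV.sq (x * y) (mul_mem hx hy)
  show x * y = y * x
  rw [← inv_eq_of_mul_eq_one_right h3, mul_inv_rev, inv_eq_of_mul_eq_one_right h1,
    inv_eq_of_mul_eq_one_right h2]

theorem IsCoreOf.pgroup {t : G} {Q : Subgroup G} (hQ : IsCoreOf t Q) : IsPGroup 2 Q :=
  IsPGroup.of_card (p := 2) (n := 6) (by rw [hQ.card]; norm_num)

theorem card_of_mod_three {n : ℕ} (h : n ∣ 64) (h3 : n % 3 = 1) (h4 : 4 ≤ n) :
    n = 4 ∨ n = 16 ∨ n = 64 := by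
  obtain ⟨k, hk, rfl⟩ := (Nat.dvd_prime_pow Nat.prime_two (m := 6)).1 h
  interval_cases k <;> omega

/-- An element of order three with its four group and the core at one of its involutions. -/
structure Local (u t : G) (V Q : Subgroup G) : Prop where
  hu : orderOf u = 3
  four : IsFourOf u V
  mem : t ∈ V
  ne : t ≠ 1
  core : IsCoreOf t Q

namespace Local

variable {u t : G} {V Q : Subgroup G} (L : Local u t V Q)
include L

theorem four_le_cent : V ≤ centralizer ({t} : Set G) := fun v hv =>
  mem_centralizer_singleton_iff.2 (four_comm L.four hv L.mem).eq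

theorem u_mem : u ∈ centralizer ({t} : Set G) :=
  mem_centralizer_singleton_iff.2 (mem_centralizer_singleton_iff.1 (L.four.le L.mem)).symm

theorem u_normalizer_four : u ∈ normalizer (V : Set G) :=
  L.four.norm (mem_centralizer_singleton_iff.2 rfl)

theorem four_le_core : V ≤ Q :=
  L.core.two u L.u_mem L.hu V L.four_le_cent (isPGroup_four L.four.card) L.u_normalizer_four

theorem core_inf_cent : Q ⊓ centralizer ({u} : Set G) = V :=
  le_antisymm (L.four.two _ inf_le_right (L.core.pgroup.to_le inf_le_left))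
    (le_inf L.four_le_core L.four.le)

theorem card_cases {X : Subgroup G} (hV : V ≤ X) (hX : X ≤ Q) (hu : u ∈ normalizer (X : Set G)) :
    Nat.card X = 4 ∨ Nat.card X = 16 ∨ Nat.card X = 64 := by
  haveI := Fact.mk Nat.prime_three
  have h := card_modEq_fixed (p := 3) X L.hu hu
  rw [show X ⊓ centralizer ({u} : Set G) = V from le_antisymm
    ((inf_le_inf_right _ hX).trans L.core_inf_cent.le) (le_inf hV L.four.le), L.four.card] at h
  exact card_of_mod_three (L.core.card ▸ Subgroup.card_dvd_of_le hX) (by simpa [Nat.ModEq] using h)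
    (L.four.card ▸ Subgroup.card_le_of_le hV)

theorem u_normalizer_core : u ∈ normalizer (Q : Set G) := L.core.norm L.u_mem

theorem u_cent_four : u ∈ centralizer (V : Set G) := mem_centralizer_iff.2 fun v hv =>
  mem_centralizer_singleton_iff.1 (L.four.le hv)

theorem u_normalizer_R : u ∈ normalizer ((Q ⊓ centralizer (V : Set G) : Subgroup G) : Set G) := by
  refine mem_normalizer_of_map_mem fun y hy => ⟨conj_mem_of_mem_normalizer L.u_normalizer_core hy.1, ?_⟩
  exact (centralizer (V : Set G)).mul_mem ((centralizer (V : Set G)).mul_mem L.u_cent_four hy.2)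
    ((centralizer (V : Set G)).inv_mem L.u_cent_four)

theorem four_le_R : V ≤ Q ⊓ centralizer (V : Set G) :=
  le_inf L.four_le_core fun v hv => mem_centralizer_iff.2 fun w hw => (four_comm L.four hw hv).eq

/-- The centralizer of the four group in the core is invariant under the centralizer of `u`. -/
theorem R_invariant :
    centralizer ({u} : Set G) ≤ normalizer ((Q ⊓ centralizer (V : Set G) : Subgroup G) : Set G) := by
  intro w hw
  set R := Q ⊓ centralizer (V : Set G) with hR
  set X := R.map (MulAut.conj w).toMonoidHom with hX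
  have hXV : X ≤ centralizer (V : Set G) := by
    intro y hy
    obtain ⟨r, hr, rfl⟩ := conj_mem_map.1 hy
    refine mem_centralizer_iff.2 fun v hv => ?_
    have hv' : w⁻¹ * v * w ∈ V := (mem_normalizer_iff''.1 (L.four.norm hw) v).1 hv
    have h := mem_centralizer_iff.1 hr.2 _ hv'
    calc v * (w * r * w⁻¹) = w * (w⁻¹ * v * w * r) * w⁻¹ := by group
      _ = w * (r * (w⁻¹ * v * w)) * w⁻¹ := by rw [h]
      _ = w * r * w⁻¹ * v := by group
  have huX : u ∈ normalizer (X : Set G) := mem_normalizer_of_map_mem fun y hy => by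
    obtain ⟨r, hr, rfl⟩ := conj_mem_map.1 hy
    refine conj_mem_map.2 ⟨u * r * u⁻¹, conj_mem_of_mem_normalizer L.u_normalizer_R hr, ?_⟩
    have hc : Commute w u := mem_centralizer_singleton_iff.1 hw
    calc w * (u * r * u⁻¹) * w⁻¹ = (w * u) * r * (w * u)⁻¹ := by group
      _ = (u * w) * r * (u * w)⁻¹ := by rw [hc.eq]
      _ = u * (w * r * w⁻¹) * u⁻¹ := by group
  have hXQ : X ≤ Q := L.core.two u L.u_mem L.hu X
    (fun y hy => mem_centralizer_singleton_iff.2 (mem_centralizer_iff.1 (hXV hy) t L.mem).symm)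
    ((L.core.pgroup.to_le inf_le_left).map _) huX
  exact mem_normalizer_of_map_mem fun r hr =>
    le_inf hXQ hXV (conj_mem_map.2 ⟨r, hr, rfl⟩)

end Local

/-- Two commuting elements of order three with commuting four groups. -/
structure Pair (u k t : G) (V F Q : Subgroup G) : Prop extends Local u t V Q where
  hk : orderOf k = 3
  comm : Commute u k
  notMem : k ∉ zpowers u
  fourk : IsFourOf k F
  le_core : F ≤ Q
  cent : ∀ v ∈ V, ∀ f ∈ F, Commute v f

theorem not_mem_zpowers_symm {u k : G} (hu : orderOf u = 3) (hk : orderOf k = 3) (h : k ∉ zpowers u) :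
    u ∉ zpowers k := fun h' => h (by
  rw [Subgroup.eq_of_le_of_card_ge (zpowers_le.2 h') (by rw [Nat.card_zpowers, Nat.card_zpowers, hu, hk])]
  exact mem_zpowers k)

namespace Pair

variable {u k t : G} {V F Q : Subgroup G} (P : Pair u k t V F Q)
include P

theorem k_mem : k ∈ centralizer ({u} : Set G) := mem_centralizer_singleton_iff.2 P.comm.symm.eq

theorem u_mem' : u ∈ centralizer ({k} : Set G) := mem_centralizer_singleton_iff.2 P.comm.eq

theorem u_notMem : u ∉ zpowers k := not_mem_zpowers_symm P.hu P.hk P.notMem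

theorem disjoint : V ⊓ F = ⊥ := eq_bot_iff.2 fun x hx => mem_bot.2
  (P.four.fixed k P.k_mem (by rw [P.hk]; norm_num) P.notMem x hx.1
    (mem_centralizer_singleton_iff.1 (P.fourk.le hx.2)).symm)

theorem fixed_F {x : G} (hx : x ∈ F) (h : Commute u x) : x = 1 :=
  P.fourk.fixed u P.u_mem' (by rw [P.hu]; norm_num) P.u_notMem x hx h

theorem mem_sup_iff {x : G} : x ∈ V ⊔ F ↔ ∃ v ∈ V, ∃ f ∈ F, v * f = x := by
  refine ⟨fun hx => ?_, fun ⟨v, hv, f, hf, e⟩ => e ▸ mul_mem (mem_sup_left hv) (mem_sup_right hf)⟩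
  have h : x ∈ ((V : Set G) * (F : Set G)) := by
    rw [← Subgroup.coe_mul_of_left_le_normalizer_right V F (fun v hv => ?_)]
    · exact hx
    · exact centralizer_le_normalizer _ (mem_centralizer_iff.2 fun f hf => (P.cent v hv f hf).symm.eq)
  exact Set.mem_mul.1 h

theorem card_sup : Nat.card ↥(V ⊔ F) = 16 := by
  have hf : Function.Bijective fun z : V × F => (⟨(z.1 : G) * z.2,
      mul_mem (mem_sup_left z.1.2) (mem_sup_right z.2.2)⟩ : ↥(V ⊔ F)) := by
    refine ⟨fun a b hab => ?_, fun x => ?_⟩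
    · have h : (a.1 : G) * a.2 = b.1 * b.2 := congrArg Subtype.val hab
      have h' : (b.1 : G)⁻¹ * a.1 = b.2 * (a.2 : G)⁻¹ := by
        rw [eq_mul_inv_iff_mul_eq, mul_assoc, h, inv_mul_cancel_left]
      have h0 : (b.1 : G)⁻¹ * a.1 = 1 := mem_bot.1 (P.disjoint ▸
        (⟨V.mul_mem (V.inv_mem b.1.2) a.1.2, h'.symm ▸ F.mul_mem b.2.2 (F.inv_mem a.2.2)⟩ :
          (b.1 : G)⁻¹ * a.1 ∈ V ⊓ F))
      have h1 : (b.1 : G) = a.1 := inv_mul_eq_one.1 h0
      refine Prod.ext (Subtype.ext h1.symm) (Subtype.ext ?_)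
      rw [h1] at h
      exact mul_left_cancel h
    · obtain ⟨v, hv, f, hf, e⟩ := P.mem_sup_iff.1 x.2
      exact ⟨(⟨v, hv⟩, ⟨f, hf⟩), Subtype.ext e⟩
  rw [← Nat.card_congr (Equiv.ofBijective _ hf), Nat.card_prod, P.four.card, P.fourk.card]

theorem sup_comm_elem {x y : G} (hx : x ∈ V ⊔ F) (hy : y ∈ V ⊔ F) : Commute x y := by
  obtain ⟨v, hv, f, hf, rfl⟩ := P.mem_sup_iff.1 hx
  obtain ⟨v', hv', f', hf', rfl⟩ := P.mem_sup_iff.1 hy
  exact ((four_comm P.four hv hv').mul_right (P.cent v hv f' hf')).mul_left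
    (((P.cent v' hv' f hf).symm).mul_right (four_comm P.fourk hf hf'))

theorem sup_le_core : V ⊔ F ≤ Q := sup_le P.toLocal.four_le_core P.le_core

theorem sup_le_cent : V ⊔ F ≤ centralizer (V : Set G) := fun x hx => mem_centralizer_iff.2 fun v hv =>
  (P.sup_comm_elem (mem_sup_left hv) hx).eq

theorem norm_sup {w : G} (h1 : w ∈ centralizer ({u} : Set G)) (h2 : w ∈ centralizer ({k} : Set G)) :
    w ∈ normalizer ((V ⊔ F : Subgroup G) : Set G) := by
  refine mem_normalizer_of_map_mem fun y hy => ?_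
  obtain ⟨v, hv, f, hf, rfl⟩ := P.mem_sup_iff.1 hy
  refine P.mem_sup_iff.2 ⟨w * v * w⁻¹, conj_mem_of_mem_normalizer (P.four.norm h1) hv,
    w * f * w⁻¹, conj_mem_of_mem_normalizer (P.fourk.norm h2) hf, by group⟩

theorem u_norm_sup : u ∈ normalizer ((V ⊔ F : Subgroup G) : Set G) :=
  P.norm_sup (mem_centralizer_singleton_iff.2 rfl) P.u_mem'

theorem k_norm_sup : k ∈ normalizer ((V ⊔ F : Subgroup G) : Set G) :=
  P.norm_sup P.k_mem (mem_centralizer_singleton_iff.2 rfl)

/-- The core normalizes the sum of the four groups. -/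
theorem core_le_normalizer : Q ≤ normalizer ((V ⊔ F : Subgroup G) : Set G) := by
  haveI := Fact.mk Nat.prime_two
  set N := Q ⊓ normalizer ((V ⊔ F : Subgroup G) : Set G) with hN
  have hle : V ⊔ F ≤ N := le_inf P.sup_le_core le_normalizer
  have huN : u ∈ normalizer (N : Set G) := mem_normalizer_of_map_mem fun y hy =>
    ⟨conj_mem_of_mem_normalizer P.toLocal.u_normalizer_core hy.1,
      (normalizer _).mul_mem ((normalizer _).mul_mem P.u_norm_sup hy.2) ((normalizer _).inv_mem P.u_norm_sup)⟩
  have hlt : V ⊔ F < Q := lt_of_le_of_ne P.sup_le_core fun e => by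
    have := P.card_sup
    rw [e, P.core.card] at this
    omega
  have h16 : 16 < Nat.card N := by
    rw [← P.card_sup]
    have hl := lt_inf_normalizer P.core.pgroup hlt
    by_contra h
    exact hl.ne (Subgroup.eq_of_le_of_card_ge hl.le (by rw [hN] at h; omega))
  rcases P.toLocal.card_cases (le_sup_left.trans hle) inf_le_left huN with h | h | h
  · omega
  · omega
  · have : N = Q := Subgroup.eq_of_le_of_card_ge inf_le_left (by rw [h, P.core.card])
    exact this ▸ inf_le_right

/-- The pair with the roles exchanged. -/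
theorem swap {a : G} (ha : a ∈ F) (ha1 : a ≠ 1) {Q' : Subgroup G} (hQ' : IsCoreOf a Q') :
    Pair k u a F V Q' := by
  have L : Local k a F Q' := ⟨P.hk, P.fourk, ha, ha1, hQ'⟩
  refine ⟨L, P.hu, P.comm.symm, P.u_notMem, P.four, ?_, fun f hf v hv => (P.cent v hv f hf).symm⟩
  exact hQ'.two k L.u_mem P.hk V (fun v hv => mem_centralizer_singleton_iff.2 (P.cent v hv a ha).eq)
    (isPGroup_four P.four.card) (P.four.norm P.k_mem)

end Pair

end CfsgLib.Char.MTwentyTwoOrder
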