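import Cfsg.Agent.Lib.Char.MTwentyTwoOrder.Local.Elem
import Mathlib.Combinatorics.SimpleGraph.StronglyRegular

/-!
# Simple groups of order 443520: the action on 77 points and its graph
-/

set_option autoImplicit false
set_option linter.all false

open Subgroup MulAction
open scoped Pointwise

namespace CfsgLib.Char.MTwentyTwoOrder

universe u

variable {G : Type u} [Group G] [Finite G]

variable (hF : Facts G)

/-- A two-subgroup normalized by an element of order five has order congruent to one. -/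
theorem card_mod_five (hF : Facts G) {f : G} (hf : orderOf f = 5) {X : Subgroup G} (hX : IsPGroup 2 X)
    (hfX : f ∈ normalizer (X : Set G)) : Nat.card X % 5 = 1 := by
  haveI := Fact.mk Nat.prime_five
  haveI := Fact.mk Nat.prime_two
  by_contra h
  obtain ⟨x, hx, hx1, hc⟩ := exists_fixed hf hfX (fun he => h (by simpa [Nat.ModEq] using he))
  obtain ⟨k, hk⟩ := IsPGroup.iff_card.1 hX
  have h2 : orderOf x ∣ 2 ^ k := hk ▸ Subgroup.orderOf_dvd_natCard X hx
  have h5 : orderOf x ∣ 5 := hF.cent_five _ hf ▸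
    Subgroup.orderOf_dvd_natCard _ (mem_centralizer_singleton_iff.2 hc.symm.eq)
  have := Nat.dvd_gcd h2 h5
  rw [show Nat.gcd (2 ^ k) 5 = 1 from Nat.Coprime.pow_left k (by norm_num), Nat.dvd_one] at this
  exact hx1 (orderOf_eq_one_iff.1 this)

include hF in
/-- A subgroup of order 160 of a normalizer of order 5760 contains the normalized group. -/
theorem le_of_card_160 {E K D : Subgroup G} (hE : Nat.card E = 16) (hK : Nat.card K = 5760)
    (hEK : E ≤ K) (hKE : K ≤ normalizer (E : Set G)) (hD : Nat.card D = 160) (hDK : D ≤ K) : E ≤ D := by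
  haveI := Fact.mk Nat.prime_five
  haveI := Fact.mk Nat.prime_two
  obtain ⟨f, hf⟩ := exists_prime_orderOf_dvd_card' (G := D) 5 (by rw [hD]; norm_num)
  have hfo : orderOf (f : G) = 5 := by rw [Subgroup.orderOf_coe, hf]
  let S : Sylow 2 D := default
  set T := (S : Subgroup D).map D.subtype with hT
  have hTc : Nat.card T = 32 := by
    rw [hT, card_map_of_injective D.subtype_injective]
    exact card_sylow_eq (a := 5) (m := 5) S (by rw [hD]; norm_num) (by norm_num)
  have hTD : T ≤ D := map_subtype_le _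
  have hEp : IsPGroup 2 E := IsPGroup.of_card (n := 4) (by rw [hE]; norm_num)
  have hTp : IsPGroup 2 T := IsPGroup.of_card (n := 5) (by rw [hTc]; norm_num)
  have hp : IsPGroup 2 ↥(T ⊔ E) := IsPGroup.to_sup_of_normal_right' hTp hEp ((hTD.trans hDK).trans hKE)
  obtain ⟨n, hn⟩ := IsPGroup.iff_card.1 hp
  have hd := Subgroup.card_dvd_of_le (show T ⊔ E ≤ K from sup_le (hTD.trans hDK) hEK)
  rw [hK, hn] at hd
  have hn7 : n ≤ 7 := by
    by_contra h
    have := (Nat.pow_dvd_pow 2 (show 8 ≤ n by omega)).trans hd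
    norm_num at this
  have h := card_mul_le (le_sup_left : T ≤ T ⊔ E) (le_sup_right : E ≤ T ⊔ E)
  rw [hTc, hE, hn] at h
  have h4 : 4 ≤ Nat.card ↥(T ⊓ E) := by
    have : 2 ^ n ≤ 128 := by
      calc 2 ^ n ≤ 2 ^ 7 := Nat.pow_le_pow_right (by norm_num) hn7
        _ = 128 := by norm_num
    nlinarith
  set X := D ⊓ E with hX
  have hfX : (f : G) ∈ normalizer (X : Set G) := mem_normalizer_of_map_mem fun y hy =>
    ⟨D.mul_mem (D.mul_mem f.2 hy.1) (D.inv_mem f.2), conj_mem_of_mem_normalizer (hKE (hDK f.2)) hy.2⟩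
  have h5 := card_mod_five hF hfo (hEp.to_le (inf_le_right : X ≤ E)) hfX
  have h4' : 4 ≤ Nat.card X := h4.trans (Subgroup.card_le_of_le (inf_le_inf_right E hTD))
  have hd' := hE ▸ Subgroup.card_dvd_of_le (inf_le_right : X ≤ E)
  have hle := Nat.le_of_dvd (by norm_num) hd'
  have h16 : Nat.card X = 16 := by
    interval_cases hc : Nat.card X <;> first | rfl | omega
  exact inf_eq_right.1 (Subgroup.eq_of_le_of_card_ge inf_le_right (by rw [h16, hE]))

section action

variable {E H : Subgroup G}

/-- The base point. -/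
abbrev basePt (H : Subgroup G) : G ⧸ H := ((1 : G) : G ⧸ H)

theorem stabilizer_basePt (H : Subgroup G) : stabilizer G (basePt H) = H := by
  ext g
  rw [mem_stabilizer_iff, MulAction.Quotient.smul_coe, smul_eq_mul, mul_one, QuotientGroup.eq, mul_one,
    inv_mem_iff]

theorem smul_basePt (g : G) : g • basePt H = (g : G ⧸ H) := by
  rw [MulAction.Quotient.smul_coe, smul_eq_mul, mul_one]

theorem orbit_mul_stab (H : Subgroup G) (y : G ⧸ H) :
    (orbit H y).ncard * Nat.card ↥(H ⊓ stabilizer G y) = Nat.card H := by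
  rw [← Nat.card_coe_set_eq, Nat.card_congr (orbitEquivQuotientStabilizer H y), ← Subgroup.index_eq_card,
    show stabilizer H y = (H ⊓ stabilizer G y).subgroupOf H by
      ext h; exact ⟨fun e => ⟨h.2, e⟩, fun e => e.2⟩,
    ← Nat.card_congr (subgroupOfEquivOfLe (inf_le_left : H ⊓ stabilizer G y ≤ H)).toEquiv, mul_comm,
    Subgroup.card_mul_index]

theorem card_pair_smul (g : G) (a b : G ⧸ H) :
    Nat.card ↥(stabilizer G (g • a) ⊓ stabilizer G (g • b)) = Nat.card ↥(stabilizer G a ⊓ stabilizer G b) := by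
  rw [stabilizer_smul_eq_stabilizer_map_conj, stabilizer_smul_eq_stabilizer_map_conj,
    ← Subgroup.map_inf _ _ _ (MulAut.conj g).injective]
  exact card_map_of_injective (MulAut.conj g).injective

/-- Points are adjacent when their common stabilizer has order 360. -/
def seventyGraph (H : Subgroup G) : SimpleGraph (G ⧸ H) where
  Adj a b := a ≠ b ∧ Nat.card ↥(stabilizer G a ⊓ stabilizer G b) = 360
  symm := ⟨fun a b h => ⟨h.1.symm, by rw [inf_comm]; exact h.2⟩⟩
  loopless := ⟨fun a h => h.1 rfl⟩

theorem seventyGraph_smul (g : G) (a b : G ⧸ H) :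
    (seventyGraph H).Adj (g • a) (g • b) ↔ (seventyGraph H).Adj a b := by
  show (_ ∧ _) ↔ (_ ∧ _)
  rw [card_pair_smul, (MulAction.injective g).ne_iff]

include hF in
theorem orbit_structure (hE : Nat.card E = 16) (hEH : E ≤ H) (hH : H = normalizer (E : Set G))
    (hHc : Nat.card H = 5760) :
    ∃ y z : G ⧸ H, (orbit H y).ncard = 16 ∧ (orbit H z).ncard = 60 ∧
      ∀ w : G ⧸ H, w = basePt H ∨ w ∈ orbit H y ∨ w ∈ orbit H z := by
  classical
  haveI := Fact.mk Nat.prime_five
  haveI := Fintype.ofFinite (orbitRel.Quotient H (G ⧸ H))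
  haveI := Fintype.ofFinite (G ⧸ H)
  have hidx : H.index = 77 := by
    have h := H.card_mul_index
    rw [hHc, hF.card_eq] at h
    omega
  have hx0 : orbit H (basePt H) = {basePt H} := by
    ext w
    refine ⟨fun ⟨h, e⟩ => ?_, fun e => e ▸ mem_orbit_self _⟩
    rw [← e]
    exact mem_stabilizer_iff.1 ((stabilizer_basePt H).ge h.2)
  have hrank := hF.rank_seventy_seven H hidx
  rw [Nat.card_eq_fintype_card] at hrank
  set c0 : orbitRel.Quotient H (G ⧸ H) := Quotient.mk'' (basePt H) with hc0
  obtain ⟨q, r, hqr, huniv⟩ : ∃ q r, q ≠ r ∧ (Finset.univ.erase c0) = {q, r} :=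
    Finset.card_eq_two.1 (by rw [Finset.card_erase_of_mem (Finset.mem_univ _), Finset.card_univ, hrank])
  obtain ⟨y, rfl⟩ := Quotient.exists_rep q
  obtain ⟨z, rfl⟩ := Quotient.exists_rep r
  have hclass : ∀ a b : G ⧸ H, (Quotient.mk'' a : orbitRel.Quotient H (G ⧸ H)) = Quotient.mk'' b ↔
      a ∈ orbit H b := fun a b => Quotient.eq''.trans orbitRel_apply
  have hcover : ∀ w : G ⧸ H, w = basePt H ∨ w ∈ orbit H y ∨ w ∈ orbit H z := by
    intro w
    by_cases hw : (Quotient.mk'' w : orbitRel.Quotient H (G ⧸ H)) = c0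
    · exact Or.inl (Set.mem_singleton_iff.1 (hx0 ▸ (hclass _ _).1 hw))
    · have hm : (Quotient.mk'' w : orbitRel.Quotient H (G ⧸ H)) ∈ Finset.univ.erase c0 :=
        Finset.mem_erase.2 ⟨hw, Finset.mem_univ _⟩
      rw [huniv, Finset.mem_insert, Finset.mem_singleton] at hm
      exact Or.inr (hm.imp (hclass _ _).1 (hclass _ _).1)
  have hy0 : basePt H ∉ orbit H y ∧ basePt H ∉ orbit H z := by
    have h1 := (Finset.ext_iff.1 huniv c0)
    simp only [Finset.mem_erase, Finset.mem_insert, Finset.mem_singleton, ne_eq, not_true_eq_false,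
      false_and, false_iff, not_or] at h1
    exact ⟨fun h => h1.1 ((hclass _ _).2 h), fun h => h1.2 ((hclass _ _).2 h)⟩
  have hdisj : Disjoint (orbit H y) (orbit H z) := Set.disjoint_left.2 fun w h1 h2 =>
    hqr (((hclass w y).2 h1).symm.trans ((hclass w z).2 h2))
  -- sizes
  have hsum : (orbit H y).ncard + (orbit H z).ncard = 76 := by
    have h : (Set.univ : Set (G ⧸ H)) = insert (basePt H) (orbit H y ∪ orbit H z) :=
      Set.ext fun w => ⟨fun _ => (hcover w).imp id id, fun _ => trivial⟩
    have h' := congrArg Set.ncard h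
    rw [Set.ncard_univ, ← Subgroup.index_eq_card, hidx, Set.ncard_insert_of_notMem
      (fun hh => hh.elim hy0.1 hy0.2), Set.ncard_union_eq hdisj] at h'
    omega
  -- fixed points of an element of order five
  obtain ⟨f, hf⟩ := exists_prime_orderOf_dvd_card' (G := H) 5 (by rw [hHc]; norm_num)
  have hfo : orderOf (f : G) = 5 := by rw [Subgroup.orderOf_coe, hf]
  have hP5 : Nat.card (zpowers (f : G)) = 5 := by rw [Nat.card_zpowers, hfo]
  have hPH : zpowers (f : G) ≤ H := zpowers_le.2 f.2
  set Fix : Set (G ⧸ H) := {w | (f : G) • w = w} with hFix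
  have hfix4 : Fix.ncard ≤ 4 := by
    set N := normalizer (zpowers (f : G) : Set G) with hN
    have hsub : Fix ⊆ orbit N (basePt H) := by
      intro w hw
      obtain ⟨g, rfl⟩ := QuotientGroup.mk_surjective w
      have hg : g⁻¹ * f * g ∈ H := by
        have e : ((f * g : G) : G ⧸ H) = (g : G ⧸ H) := by
          rw [← smul_eq_mul, ← MulAction.Quotient.smul_coe]; exact hw
        have h1 := H.inv_mem (QuotientGroup.eq.1 e)
        rwa [mul_inv_rev, inv_inv, ← mul_assoc] at h1
      have hS : ∀ x : H, orderOf x = 5 → ∃ S : Sylow 5 H, (S : Subgroup H) = zpowers x := by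
        intro x hx
        refine ⟨Sylow.ofCard (zpowers x) ?_, rfl⟩
        rw [Nat.card_zpowers, hx, hHc, show (5760 : ℕ) = 5 ^ 1 * 1152 by norm_num,
          Nat.factorization_mul (by norm_num) (by norm_num), Finsupp.add_apply,
          Nat.Prime.factorization_pow (by norm_num), Finsupp.single_eq_same,
          Nat.factorization_eq_zero_of_not_dvd (show ¬ 5 ∣ 1152 by norm_num)]
        norm_num
      have hgo : orderOf (⟨_, hg⟩ : H) = 5 := by
        rw [Subgroup.orderOf_mk, show g⁻¹ * f * g = MulAut.conj g⁻¹ (f : G) by simp,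
          MulEquiv.orderOf_eq]
        exact hfo
      obtain ⟨S₁, hS₁⟩ := hS f hf
      obtain ⟨S₂, hS₂⟩ := hS _ hgo
      obtain ⟨h, hh⟩ := MulAction.exists_smul_eq H S₂ S₁
      have hmem : (h : G) * (g⁻¹ * f * g) * (h : G)⁻¹ ∈ zpowers (f : G) := by
        have h1 : h * ⟨_, hg⟩ * h⁻¹ ∈ (S₁ : Subgroup H) := by
          rw [← hh, Sylow.coe_subgroup_smul]
          exact ⟨_, hS₂ ▸ mem_zpowers _, rfl⟩
        rw [hS₁] at h1
        obtain ⟨n, hn⟩ := mem_zpowers_iff.1 h1
        exact mem_zpowers_iff.2 ⟨n, by simpa using congrArg Subtype.val hn⟩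
      have hgN : g * (h : G)⁻¹ ∈ N := by
        rw [← inv_mem_iff, mul_inv_rev, inv_inv]
        refine mem_normalizer_of_map_mem fun x hx => ?_
        obtain ⟨n, rfl⟩ := mem_zpowers_iff.1 hx
        rw [← conj_zpow, mul_inv_rev, inv_inv]
        refine zpow_mem ?_ n
        convert hmem using 1
        group
      refine ⟨⟨_, hgN⟩, ?_⟩
      show (g * (h : G)⁻¹) • basePt H = (g : G ⧸ H)
      rw [smul_basePt, QuotientGroup.eq]
      simp
    refine (Set.ncard_le_ncard hsub (Set.toFinite _)).trans ?_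
    rw [← Nat.card_coe_set_eq, Nat.card_congr (orbitEquivQuotientStabilizer N (basePt H)),
      ← Subgroup.index_eq_card]
    have hle : (zpowers (f : G)).subgroupOf N ≤ stabilizer N (basePt H) := fun x hx => by
      have : (x : G) ∈ stabilizer G (basePt H) := (stabilizer_basePt H).ge (hPH hx)
      exact this
    refine (Nat.le_of_dvd (Nat.pos_of_ne_zero Subgroup.index_ne_zero_of_finite)
      (Subgroup.index_dvd_of_le hle)).trans ?_
    have h := Subgroup.card_mul_index ((zpowers (f : G)).subgroupOf N)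
    rw [Nat.card_congr (subgroupOfEquivOfLe le_normalizer).toEquiv, hP5, hF.norm_five _ hP5] at h
    omega
  have horb : ∀ w : G ⧸ H, (orbit H w).ncard % 5 ≤ (Fix ∩ orbit H w).ncard := by
    intro w
    letI act : MulAction (zpowers f) (orbit H w) := MulAction.compHom _ (zpowers f).subtype
    have hp : IsPGroup 5 (zpowers f) := IsPGroup.of_card (n := 1) (by rw [Nat.card_zpowers, hf, pow_one])
    have h := hp.card_modEq_card_fixedPoints (orbit H w)
    rw [Nat.card_coe_set_eq] at h
    have hle : Nat.card (MulAction.fixedPoints (zpowers f) (orbit H w)) ≤ (Fix ∩ orbit H w).ncard := by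
      rw [← Nat.card_coe_set_eq]
      refine Nat.card_le_card_of_injective (fun a => ⟨((a : orbit H w) : G ⧸ H),
        congrArg Subtype.val (a.2 ⟨f, mem_zpowers f⟩), (a : orbit H w).2⟩) fun a b hab => ?_
      exact Subtype.ext (Subtype.ext (congrArg (fun x : ↥(Fix ∩ orbit H w) => (x : G ⧸ H)) hab))
    exact le_trans (h.trans rfl ▸ Nat.mod_le _ 5) hle
  have hfy := horb y
  have hfz := horb z
  have htot : 1 + (Fix ∩ orbit H y).ncard + (Fix ∩ orbit H z).ncard ≤ Fix.ncard := by
    have hb : basePt H ∈ Fix := mem_stabilizer_iff.1 ((stabilizer_basePt H).ge f.2)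
    have h1 : Disjoint (Fix ∩ orbit H y) (Fix ∩ orbit H z) :=
      hdisj.mono Set.inter_subset_right Set.inter_subset_right
    have h2 : basePt H ∉ (Fix ∩ orbit H y) ∪ (Fix ∩ orbit H z) :=
      fun h => h.elim (fun h => hy0.1 h.2) fun h => hy0.2 h.2
    have h3 := Set.ncard_le_ncard (show insert (basePt H) ((Fix ∩ orbit H y) ∪ (Fix ∩ orbit H z)) ⊆ Fix from
      Set.insert_subset hb (Set.union_subset Set.inter_subset_left Set.inter_subset_left)) (Set.toFinite _)
    rw [Set.ncard_insert_of_notMem h2, Set.ncard_union_eq h1] at h3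
    omega
  have hdy : (orbit H y).ncard ∣ 5760 := hHc ▸ Dvd.intro _ (orbit_mul_stab H y)
  have hdz : (orbit H z).ncard ∣ 5760 := hHc ▸ Dvd.intro _ (orbit_mul_stab H z)
  -- no suborbit of length 36
  have h36 : ∀ w : G ⧸ H, (orbit H w).ncard = 36 → False := by
    intro w hw
    obtain ⟨g, rfl⟩ := QuotientGroup.mk_surjective w
    have hst : stabilizer G (g : G ⧸ H) = H.map (MulAut.conj g).toMonoidHom := by
      rw [← smul_basePt, stabilizer_smul_eq_stabilizer_map_conj, stabilizer_basePt]
    set D := H ⊓ stabilizer G (g : G ⧸ H) with hD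
    have hDc : Nat.card D = 160 := by
      have h := orbit_mul_stab H (g : G ⧸ H)
      rw [hw, hHc, ← hD] at h
      omega
    set E' := E.map (MulAut.conj g).toMonoidHom with hE'
    set H' := H.map (MulAut.conj g).toMonoidHom with hH'
    have hH'N : H' ≤ normalizer (E' : Set G) := by
      rintro _ ⟨h, hh, rfl⟩
      refine mem_normalizer_of_map_mem fun x hx => ?_
      obtain ⟨e, he, rfl⟩ := hx
      exact ⟨h * e * h⁻¹, conj_mem_of_mem_normalizer (hH ▸ hh) he, by simp [mul_assoc]⟩
    have hE'c : Nat.card E' = 16 := by rw [hE', card_map_of_injective (MulAut.conj g).injective, hE]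
    have h1 := le_of_card_160 hF hE hHc hEH hH.le hDc inf_le_left
    have h2 := le_of_card_160 hF hE'c ((card_map_of_injective (MulAut.conj g).injective).trans hHc)
      (Subgroup.map_mono hEH) hH'N hDc (inf_le_right.trans hst.le)
    obtain ⟨f', hf'⟩ := exists_prime_orderOf_dvd_card' (G := D) 5 (by rw [hDc]; norm_num)
    have hDE : D ≤ normalizer (E : Set G) := inf_le_left.trans hH.le
    have hDE' : D ≤ normalizer (E' : Set G) := (inf_le_right.trans hst.le).trans hH'N
    haveI := Fact.mk Nat.prime_two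
    have hp : IsPGroup 2 ↥(E ⊔ E') := IsPGroup.to_sup_of_normal_right'
      (IsPGroup.of_card (n := 4) (by rw [hE]; norm_num)) (IsPGroup.of_card (n := 4) (by rw [hE'c]; norm_num))
      (h1.trans hDE')
    have h5 := card_mod_five hF (f := (f' : G)) (by rw [Subgroup.orderOf_coe, hf']) hp
      (mem_normalizer_sup (hDE f'.2) (hDE' f'.2))
    have hd := Subgroup.card_dvd_of_le (sup_le h1 h2 : E ⊔ E' ≤ D)
    rw [hDc] at hd
    have h16 := Subgroup.card_le_of_le (le_sup_left : E ≤ E ⊔ E')
    rw [hE] at h16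
    obtain ⟨n, hn⟩ := IsPGroup.iff_card.1 hp
    rw [hn] at hd h5 h16
    have hn5 : n ≤ 5 := by
      by_contra h
      have := (Nat.pow_dvd_pow 2 (show 6 ≤ n by omega)).trans hd
      norm_num at this
    have hn4 : Nat.card ↥(E ⊔ E') = 16 := by
      rw [hn]; interval_cases n <;> first | rfl | omega
    have heq : E' = E := by
      have e1 : E = E ⊔ E' := Subgroup.eq_of_le_of_card_ge le_sup_left (by rw [hn4, hE])
      exact Subgroup.eq_of_le_of_card_ge (le_sup_right.trans e1.ge) (by rw [hE, hE'c])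
    have hgN : g ∈ H := hH.ge (mem_normalizer_of_map_mem fun x hx => heq.le ⟨x, hx, rfl⟩)
    have hwb : (g : G ⧸ H) = basePt H := by rw [QuotientGroup.eq, mul_one]; exact inv_mem hgN
    rw [hwb, hx0, Set.ncard_singleton] at hw
    omega
  have hy36 : (orbit H y).ncard ≠ 36 := h36 y
  have hz36 : (orbit H z).ncard ≠ 36 := h36 z
  have hcase : ((orbit H y).ncard = 16 ∧ (orbit H z).ncard = 60) ∨
      ((orbit H y).ncard = 60 ∧ (orbit H z).ncard = 16) := by
    generalize (orbit H y).ncard = a at *
    generalize (orbit H z).ncard = b at *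
    obtain rfl : b = 76 - a := by omega
    have : a ≤ 76 := by omega
    interval_cases a <;> first | omega | (exfalso; revert hdy; norm_num; done) | (exfalso; revert hdz; norm_num; done)
  rcases hcase with ⟨h1, h2⟩ | ⟨h1, h2⟩
  · exact ⟨y, z, h1, h2, hcover⟩
  · exact ⟨z, y, h2, h1, fun w => (hcover w).imp id Or.symm⟩

end action

include hF in
/-- The strongly regular graph on the 77 cosets. -/
theorem exists_srg : ∃ (H : Subgroup G) (_ : H.index = 77) (_ : Fintype (G ⧸ H))
    (_ : DecidableRel (seventyGraph H).Adj), (seventyGraph H).IsSRGWith 77 16 0 4 := by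
  classical
  obtain ⟨E, hE, hCE, hN⟩ := exists_sixteen hF
  set H := normalizer (E : Set G) with hH
  have hidx : H.index = 77 := by
    have h := H.card_mul_index
    rw [hN, hF.card_eq] at h
    omega
  haveI := Fintype.ofFinite (G ⧸ H)
  refine ⟨H, hidx, inferInstance, inferInstance, ?_⟩
  obtain ⟨y, z, hy, hz, hcover⟩ := orbit_structure hF hE le_normalizer hH hN
  set Γ := seventyGraph H with hΓ
  set x0 := basePt H with hx0
  have hpair : ∀ w, w ∈ orbit H y ∨ w ∈ orbit H z → (orbit H w).ncard * Nat.card ↥(stabilizer G x0 ⊓ stabilizer G w) = 5760 :=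
    fun w _ => by rw [hx0, stabilizer_basePt]; rw [← hN]; exact orbit_mul_stab H w
  have hne0 : ∀ w, w ∈ orbit H y ∨ w ∈ orbit H z → w ≠ x0 := by
    intro w hw e
    subst e
    have h1 : orbit H x0 = {x0} := by
      ext w
      refine ⟨fun ⟨h, e⟩ => ?_, fun e => e ▸ mem_orbit_self _⟩
      rw [← e]
      exact mem_stabilizer_iff.1 ((stabilizer_basePt H).ge h.2)
    rcases hw with h | h
    · rw [← orbit_eq_iff.2 h, h1, Set.ncard_singleton] at hy
      omega
    · rw [← orbit_eq_iff.2 h, h1, Set.ncard_singleton] at hz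
      omega
  have hnb : ∀ w, Γ.Adj x0 w ↔ w ∈ orbit H y := by
    intro w
    constructor
    · rintro ⟨hne, hc⟩
      rcases hcover w with e | e | e
      · exact absurd e.symm hne
      · exact e
      · have h := hpair w (Or.inr e)
        rw [hc, orbit_eq_iff.2 e, hz] at h
        norm_num at h
    · intro e
      refine ⟨(hne0 w (Or.inl e)).symm, ?_⟩
      have h := hpair w (Or.inl e)
      rw [orbit_eq_iff.2 e, hy] at h
      omega
  have hfar : ∀ w, w ≠ x0 → ¬ Γ.Adj x0 w → w ∈ orbit H z := fun w h1 h2 =>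
    ((hcover w).resolve_left h1).resolve_left fun h => h2 ((hnb w).2 h)
  have hadj : ∀ (g : G) a b, Γ.Adj (g • a) (g • b) ↔ Γ.Adj a b := seventyGraph_smul
  have hHx : ∀ h : H, (h : G) • x0 = x0 := fun h => mem_stabilizer_iff.1 ((stabilizer_basePt H).ge h.2)
  have htrans : ∀ a : G ⧸ H, ∃ g : G, g • x0 = a := fun a => MulAction.exists_smul_eq G x0 a
  have hcom : ∀ (g : G) a b, (Γ.commonNeighbors (g • a) (g • b)).ncard = (Γ.commonNeighbors a b).ncard := by
    intro g a b
    rw [show Γ.commonNeighbors (g • a) (g • b) = (fun v => g • v) '' Γ.commonNeighbors a b from ?_,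
      Set.ncard_image_of_injective _ (MulAction.injective g)]
    ext v
    constructor
    · intro hv
      refine ⟨g⁻¹ • v, ⟨(hadj g _ _).1 (by rw [smul_inv_smul]; exact hv.1),
        (hadj g _ _).1 (by rw [smul_inv_smul]; exact hv.2)⟩, smul_inv_smul _ _⟩
    · rintro ⟨w, hw, rfl⟩
      exact ⟨(hadj g _ _).2 hw.1, (hadj g _ _).2 hw.2⟩
  set lam := (Γ.commonNeighbors x0 y).ncard with hlam
  set mu := (Γ.commonNeighbors x0 z).ncard with hmu
  have hof : ∀ a b, a ≠ b → (Γ.commonNeighbors a b).ncard = if Γ.Adj a b then lam else mu := by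
    intro a b hab
    obtain ⟨g, rfl⟩ := htrans a
    obtain ⟨w, rfl⟩ : ∃ w, g • w = b := ⟨g⁻¹ • b, smul_inv_smul _ _⟩
    rw [hcom, hadj]
    have hw0 : w ≠ x0 := fun e => hab (by rw [e])
    split_ifs with h
    · obtain ⟨k, hk⟩ := (hnb w).1 h
      rw [← hk, hlam, ← hcom (k : G) x0 y, hHx]
      rfl
    · obtain ⟨k, hk⟩ := hfar w hw0 h
      rw [← hk, hmu, ← hcom (k : G) x0 z, hHx]
      rfl
  have hdeg : ∀ a, (Γ.neighborSet a).ncard = 16 := by
    intro a
    obtain ⟨g, rfl⟩ := htrans a
    rw [show Γ.neighborSet (g • x0) = (fun v => g • v) '' orbit H y from ?_,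
      Set.ncard_image_of_injective _ (MulAction.injective g), hy]
    ext v
    constructor
    · intro hv
      exact ⟨g⁻¹ • v, (hnb _).1 ((hadj g _ _).1 (by rw [smul_inv_smul]; exact hv)), smul_inv_smul _ _⟩
    · rintro ⟨w, hw, rfl⟩
      exact (hadj g _ _).2 ((hnb _).2 hw)
  -- double counting between the two suborbits
  set A : Finset (G ⧸ H) := (orbit H y).toFinset with hA
  set B : Finset (G ⧸ H) := (orbit H z).toFinset with hB
  have hAc : A.card = 16 := by rw [hA, ← Set.ncard_eq_toFinset_card']; exact hy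
  have hBc : B.card = 60 := by rw [hB, ← Set.ncard_eq_toFinset_card']; exact hz
  have hab : ∀ a ∈ A, (Finset.bipartiteAbove Γ.Adj B a).card + 1 + lam = 16 := by
    intro a ha
    rw [hA, Set.mem_toFinset] at ha
    have hax := (hnb a).2 ha
    have hdis : ∀ v, v ∈ orbit H z → ¬ Γ.Adj x0 v := fun v hv h => by
      have h' := (hnb v).1 h
      have := congrArg Set.ncard ((orbit_eq_iff.2 h').symm.trans (orbit_eq_iff.2 hv))
      rw [hy, hz] at this
      omega
    have e : Γ.neighborSet a = insert x0 (Γ.commonNeighbors x0 a ∪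
        ((Finset.bipartiteAbove Γ.Adj B a : Finset (G ⧸ H)) : Set (G ⧸ H))) := by
      ext v
      simp only [Set.mem_insert_iff, Set.mem_union, Finset.coe_bipartiteAbove, hB]
      constructor
      · intro hv
        rcases hcover v with h | h | h
        · exact Or.inl h
        · exact Or.inr (Or.inl ⟨(hnb v).2 h, hv⟩)
        · exact Or.inr (Or.inr ⟨Set.mem_toFinset.2 h, hv⟩)
      · rintro (rfl | h | h)
        · exact hax.symm
        · exact h.2
        · exact h.2
    have hdj : Disjoint (Γ.commonNeighbors x0 a)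
        ((Finset.bipartiteAbove Γ.Adj B a : Finset (G ⧸ H)) : Set (G ⧸ H)) := by
      refine Set.disjoint_left.2 fun v h1 h2 => ?_
      rw [Finset.coe_bipartiteAbove] at h2
      exact hdis v (Set.mem_toFinset.1 h2.1) h1.1
    have h0 : x0 ∉ Γ.commonNeighbors x0 a ∪
        ((Finset.bipartiteAbove Γ.Adj B a : Finset (G ⧸ H)) : Set (G ⧸ H)) := by
      rintro (h | h)
      · exact (Γ.mem_neighborSet x0 x0).1 h.1 |>.ne rfl
      · rw [Finset.coe_bipartiteAbove] at h
        exact hne0 x0 (Or.inr (Set.mem_toFinset.1 h.1)) rfl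
    have h := hdeg a
    rw [e, Set.ncard_insert_of_notMem h0, Set.ncard_union_eq hdj, Set.ncard_coe_finset,
      hof x0 a hax.ne, if_pos hax] at h
    omega
  have hba : ∀ b ∈ B, (Finset.bipartiteBelow Γ.Adj A b).card = mu := by
    intro b hb
    rw [hB, Set.mem_toFinset] at hb
    have hn : ¬ Γ.Adj x0 b := fun h => by
      have := congrArg Set.ncard ((orbit_eq_iff.2 ((hnb b).1 h)).symm.trans (orbit_eq_iff.2 hb))
      rw [hy, hz] at this
      omega
    have h := hof x0 b (hne0 b (Or.inr hb)).symm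
    rw [if_neg hn] at h
    rw [← h, ← Set.ncard_coe_finset]
    congr 1
    ext v
    simp only [Finset.coe_bipartiteBelow, hA, Set.coe_toFinset]
    exact ⟨fun hv => ⟨(hnb v).2 (Set.mem_toFinset.1 hv.1), (hv.2 : Γ.Adj v b).symm⟩,
      fun hv => ⟨Set.mem_toFinset.2 ((hnb v).1 hv.1), (hv.2 : Γ.Adj b v).symm⟩⟩
  have hlam15 : lam ≤ 15 := by
    obtain ⟨a, ha⟩ := Finset.card_pos.1 (by omega : 0 < A.card)
    have := hab a ha
    omega
  have hcount : 16 * (15 - lam) = 60 * mu := by
    have h := Finset.sum_card_bipartiteAbove_eq_sum_card_bipartiteBelow Γ.Adj (s := A) (t := B)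
    rw [Finset.sum_const_nat (m := 15 - lam) (fun a ha => by have := hab a ha; omega),
      Finset.sum_const_nat (m := mu) hba, hAc, hBc] at h
    exact h
  -- not a union of cliques
  have hne15 : lam ≠ 15 := by
    intro h15
    set S : Set (G ⧸ H) := insert x0 (orbit H y) with hS
    have hclosed : ∀ a ∈ orbit H y, insert a (Γ.neighborSet a) = S := by
      intro a ha
      have hax := (hnb a).2 ha
      have hsub : Γ.commonNeighbors x0 a ⊆ orbit H y \ {a} :=
        fun v hv => ⟨(hnb v).1 hv.1, fun e => Γ.ne_of_adj (show Γ.Adj a v from hv.2) (Set.mem_singleton_iff.1 e).symm⟩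
      have heq : Γ.commonNeighbors x0 a = orbit H y \ {a} :=
        Set.eq_of_subset_of_ncard_le hsub (by
          rw [Set.ncard_sdiff_singleton_of_mem ha, hy, hof x0 a hax.ne, if_pos hax, h15]) (Set.toFinite _)
      have hsub2 : S ⊆ insert a (Γ.neighborSet a) := by
        rintro v (rfl | hv)
        · exact Or.inr hax.symm
        · by_cases hva : v = a
          · exact Or.inl hva
          · exact Or.inr (heq.symm.subset ⟨hv, hva⟩ : v ∈ Γ.commonNeighbors x0 a).2
      refine (Set.eq_of_subset_of_ncard_le hsub2 ?_ (Set.toFinite _)).symm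
      rw [hS, Set.ncard_insert_of_notMem (fun h => hne0 x0 (Or.inl h) rfl), hy]
      exact (Set.ncard_insert_le _ _).trans (by rw [hdeg a])
    have hmove : ∀ g : G, g • x0 ∈ S → g • S = S := by
      intro g hg
      have hfull : S = insert x0 (Γ.neighborSet x0) := by
        rw [hS]; congr 1; ext w; exact (hnb w).symm
      have himg : g • S = insert (g • x0) (Γ.neighborSet (g • x0)) := by
        rw [hfull]
        ext w
        rw [Set.mem_smul_set_iff_inv_smul_mem, Set.mem_insert_iff, Set.mem_insert_iff,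
          SimpleGraph.mem_neighborSet, SimpleGraph.mem_neighborSet, inv_smul_eq_iff,
          ← hadj g x0 (g⁻¹ • w), smul_inv_smul]
      rw [himg]
      rcases hg with e | e
      · rw [e, ← hfull]
      · exact hclosed _ e
    have horbS : orbit (stabilizer G S) x0 = S := by
      ext v
      constructor
      · rintro ⟨g, rfl⟩
        show (g : G) • x0 ∈ S
        exact (g.2 : (g : G) • S = S).subset (Set.smul_mem_smul_set (Set.mem_insert _ _))
      · intro hv
        obtain ⟨g, rfl⟩ := htrans v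
        exact ⟨⟨g, hmove g hv⟩, rfl⟩
    have h17 : 17 ∣ Nat.card G := by
      have h1 := congrArg Set.ncard horbS
      rw [hS, Set.ncard_insert_of_notMem (fun h => hne0 x0 (Or.inl h) rfl), hy, ← hS,
        ← Nat.card_coe_set_eq, Nat.card_congr (orbitEquivQuotientStabilizer _ x0),
        ← Subgroup.index_eq_card] at h1
      exact (h1 ▸ Subgroup.index_dvd_card _).trans (Subgroup.card_subgroup_dvd_card _)
    rw [hF.card_eq] at h17
    norm_num at h17
  obtain ⟨hl, hm⟩ : lam = 0 ∧ mu = 4 := by omega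
  refine ⟨by rw [← Nat.card_eq_fintype_card, ← Subgroup.index_eq_card, hidx], fun a => ?_,
    fun a b h => ?_, fun a b hne h => ?_⟩
  · rw [← SimpleGraph.card_neighborSet_eq_degree, ← Nat.card_eq_fintype_card, Nat.card_coe_set_eq, hdeg]
  · rw [← Nat.card_eq_fintype_card, Nat.card_coe_set_eq, hof a b h.ne, if_pos h, hl]
  · rw [← Nat.card_eq_fintype_card, Nat.card_coe_set_eq, hof a b hne, if_neg h, hm]

end CfsgLib.Char.MTwentyTwoOrder
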