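import Cfsg.Agent.Lib.Char.MTwentyTwoOrder.Local.Four
import Cfsg.Agent.Lib.Char.MTwentyTwoOrder.Counting

/-!
# Simple groups of order 443520: tools for the local analysis
-/

set_option autoImplicit false
set_option linter.all false

open Subgroup MulAction

namespace CfsgLib.Char.MTwentyTwoOrder

universe u

variable {G : Type u} [Group G] [Finite G]

theorem isPGroup_of_le {X Y : Subgroup G} {p : ℕ} (h : X ≤ Y) (hY : IsPGroup p Y) : IsPGroup p X := hY.to_le h

theorem conj_mem_map {X : Subgroup G} {g y : G} :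
    y ∈ X.map (MulAut.conj g).toMonoidHom ↔ ∃ z ∈ X, g * z * g⁻¹ = y := by
  simp [Subgroup.mem_map]

/-- A proper subgroup of a 2-subgroup has a larger normalizer inside it. -/
theorem lt_inf_normalizer {p : ℕ} [Fact p.Prime] {X Q : Subgroup G} (hQ : IsPGroup p Q) (h : X < Q) :
    X < Q ⊓ normalizer (X : Set G) := by
  refine lt_of_le_of_ne (le_inf h.le le_normalizer) fun he => ?_
  haveI : Group.IsNilpotent Q := hQ.isNilpotent
  have hlt : X.subgroupOf Q < ⊤ := lt_top_iff_ne_top.2 fun e => h.not_ge (Subgroup.subgroupOf_eq_top.1 e)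
  obtain ⟨y, hy, hy'⟩ := SetLike.exists_of_lt (normalizerCondition_of_isNilpotent _ hlt)
  refine hy' ?_
  have hyN : (y : G) ∈ normalizer (X : Set G) := mem_normalizer_of_map_mem fun z hz => by
    exact (mem_normalizer_iff.1 hy ⟨z, h.le hz⟩).1 hz
  exact he.ge ⟨y.2, hyN⟩

/-- Two subgroups meet in a large subgroup when their join is small. -/
theorem card_mul_le {X Y Z : Subgroup G} (hX : X ≤ Z) (hY : Y ≤ Z) :
    Nat.card X * Nat.card Y ≤ Nat.card ↥(X ⊓ Y) * Nat.card Z := by
  have h1 : ∀ {A B : Subgroup G}, A ≤ B → Nat.card A * A.relIndex B = Nat.card B := fun {A B} h => by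
    rw [← Nat.card_congr (subgroupOfEquivOfLe h).toEquiv]
    exact Subgroup.card_mul_index _
  have h2 : Y.relIndex X ≤ Y.relIndex Z :=
    Subgroup.relIndex_le_of_le_right hX Subgroup.index_ne_zero_of_finite
  have e1 := h1 (inf_le_left : X ⊓ Y ≤ X)
  rw [Subgroup.inf_relIndex_left] at e1
  have e2 := h1 hY
  rw [← e1, ← e2]
  calc Nat.card ↥(X ⊓ Y) * Y.relIndex X * Nat.card Y
      = Nat.card ↥(X ⊓ Y) * (Nat.card Y * Y.relIndex X) := by ring
    _ ≤ Nat.card ↥(X ⊓ Y) * (Nat.card Y * Y.relIndex Z) :=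
        Nat.mul_le_mul_left _ (Nat.mul_le_mul_left _ h2)

/-- A subgroup in the union of two others is in one of them. -/
theorem le_or_le_of_subset_union {X A B : Subgroup G} (h : ∀ x ∈ X, x ∈ A ∨ x ∈ B) : X ≤ A ∨ X ≤ B := by
  by_contra hc
  push Not at hc
  obtain ⟨⟨x, hx, hxA⟩, y, hy, hyB⟩ := SetLike.not_le_iff_exists.1 hc.1, SetLike.not_le_iff_exists.1 hc.2
  have hxB := (h x hx).resolve_left hxA
  have hyA := (h y hy).resolve_right hyB
  rcases h (x * y) (mul_mem hx hy) with h' | h'
  · exact hxA (by simpa using mul_mem h' (inv_mem hyA))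
  · exact hyB (by simpa using mul_mem (inv_mem hxB) h')

/-- A subgroup normalizing a four group and fixing an involution of it has a large part centralizing it. -/
theorem card_le_two_mul_centralizer {X V : Subgroup G} (hV : Nat.card V = 4) (hX : X ≤ normalizer (V : Set G))
    {t : G} (ht : t ∈ V) (ht2 : orderOf t = 2) (hfix : ∀ x ∈ X, x * t * x⁻¹ = t) :
    Nat.card X ≤ 2 * Nat.card ↥(X ⊓ centralizer (V : Set G)) := by
  classical
  haveI := Fact.mk Nat.prime_two
  obtain ⟨v, hv, hvt⟩ : ∃ v ∈ V, v ∉ zpowers t := by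
    by_contra h
    push Not at h
    have := Subgroup.card_le_of_le (show V ≤ zpowers t from h)
    rw [hV, Nat.card_zpowers, ht2] at this
    omega
  -- the images of `v` are outside the group generated by `t`
  have himg : ∀ x ∈ X, x * v * x⁻¹ ∈ V ∧ x * v * x⁻¹ ∉ zpowers t := by
    intro x hx
    refine ⟨conj_mem_of_mem_normalizer (hX hx) hv, fun h => hvt ?_⟩
    obtain ⟨n, hn⟩ := mem_zpowers_iff.1 h
    refine mem_zpowers_iff.2 ⟨n, ?_⟩
    have := congrArg (fun y => x⁻¹ * y * x) hn
    have hc : Commute x (t ^ n) := Commute.zpow_right (mul_inv_eq_iff_eq_mul.1 (hfix x hx) : Commute x t) n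
    rw [show x⁻¹ * t ^ n * x = t ^ n by rw [mul_assoc, ← hc.eq, inv_mul_cancel_left]] at this
    rw [this]; group
  have hcent : ∀ x ∈ X, x * v * x⁻¹ = v → x ∈ X ⊓ centralizer (V : Set G) := by
    intro x hx hxv
    refine ⟨hx, ?_⟩
    have hle : V ≤ centralizer ({x} : Set G) := by
      have h1 : zpowers t ⊔ zpowers v ≤ centralizer ({x} : Set G) :=
        sup_le (zpowers_le.2 (mem_centralizer_singleton_iff.2 (mul_inv_eq_iff_eq_mul.1 (hfix x hx)).symm))
          (zpowers_le.2 (mem_centralizer_singleton_iff.2 (mul_inv_eq_iff_eq_mul.1 hxv).symm))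
      refine le_trans (le_of_eq (Subgroup.eq_of_le_of_card_ge (sup_le (zpowers_le.2 ht) (zpowers_le.2 hv)) ?_).symm) h1
      have hlt : zpowers t < zpowers t ⊔ zpowers v :=
        lt_of_le_of_ne le_sup_left fun e => hvt (e ▸ mem_sup_right (mem_zpowers v))
      have hd := Subgroup.card_dvd_of_le hlt.le
      have hd' := Subgroup.card_dvd_of_le
        (show zpowers t ⊔ zpowers v ≤ V from sup_le (zpowers_le.2 ht) (zpowers_le.2 hv))
      rw [hV] at hd' ⊢
      have h2 : 1 < Nat.card (zpowers t) :=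
        by rw [Nat.card_zpowers, ht2]; norm_num
      have h3 : Nat.card (zpowers t) < Nat.card ↥(zpowers t ⊔ zpowers v) := by
        by_contra h
        exact hlt.ne (Subgroup.eq_of_le_of_card_ge hlt.le (by omega))
      obtain ⟨c, hc⟩ := hd
      have h4 : Nat.card ↥(zpowers t ⊔ zpowers v) ≤ 4 := Nat.le_of_dvd (by norm_num) hd'
      have h5 : 2 ≤ c := by
        by_contra h
        interval_cases c <;> simp_all
      nlinarith
    exact mem_centralizer_iff.2 fun y hy => mem_centralizer_singleton_iff.1 (hle hy)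
  -- two possible images
  have htwo : ((X ⊓ centralizer (V : Set G)).subgroupOf X).index ≤ 2 := by
    rw [Subgroup.index_eq_card]
    let f : X ⧸ (X ⊓ centralizer (V : Set G)).subgroupOf X → {y : V // (y : G) ∉ zpowers t} := fun q =>
      Quotient.liftOn' q (fun x => ⟨⟨_, (himg x x.2).1⟩, (himg x x.2).2⟩) fun a b hab => by
        rw [QuotientGroup.leftRel_apply, mem_subgroupOf] at hab
        refine Subtype.ext (Subtype.ext ?_)
        have h := mem_centralizer_iff.1 hab.2 v hv
        show (a : G) * v * (a : G)⁻¹ = b * v * (b : G)⁻¹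
        simp only [coe_mul, coe_inv] at h
        calc (a : G) * v * (a : G)⁻¹ = a * (v * ((a : G)⁻¹ * b)) * (b : G)⁻¹ := by group
          _ = a * (((a : G)⁻¹ * b) * v) * (b : G)⁻¹ := by rw [h]
          _ = b * v * (b : G)⁻¹ := by group
    have hf : Function.Injective f := by
      intro q r
      refine Quotient.inductionOn₂' q r fun a b h => Quotient.sound' ?_
      have h' : (a : G) * v * (a : G)⁻¹ = b * v * (b : G)⁻¹ :=
        congrArg (fun y : {y : V // (y : G) ∉ zpowers t} => ((y : V) : G)) h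
      rw [QuotientGroup.leftRel_apply, mem_subgroupOf]
      refine hcent _ (a⁻¹ * b : X).2 ?_
      simp only [coe_mul, coe_inv]
      calc (a : G)⁻¹ * b * v * ((a : G)⁻¹ * b)⁻¹ = (a : G)⁻¹ * (b * v * (b : G)⁻¹) * a := by group
        _ = v := by rw [← h']; group
    refine (Nat.card_le_card_of_injective f hf).trans ?_
    haveI := Fintype.ofFinite V
    have e2 : Nat.card {y : V // (y : G) ∈ zpowers t} = Nat.card (zpowers t) :=
      Nat.card_congr
        { toFun := fun y => ⟨_, y.2⟩
          invFun := fun y => ⟨⟨y, (zpowers_le.2 ht) y.2⟩, y.2⟩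
          left_inv := fun y => rfl
          right_inv := fun y => rfl }
    have e1 := Nat.card_congr (Equiv.sumCompl fun y : V => (y : G) ∈ zpowers t)
    rw [Nat.card_sum, e2, hV] at e1
    have h2 : 1 < Nat.card (zpowers t) :=
      by rw [Nat.card_zpowers, ht2]; norm_num
    omega
  have h := Subgroup.card_mul_index ((X ⊓ centralizer (V : Set G)).subgroupOf X)
  rw [Nat.card_congr (subgroupOfEquivOfLe (inf_le_left : X ⊓ centralizer (V : Set G) ≤ X)).toEquiv] at h
  calc Nat.card X = Nat.card ↥(X ⊓ centralizer (V : Set G)) * ((X ⊓ centralizer (V : Set G)).subgroupOf X).index :=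
        h.symm
    _ ≤ Nat.card ↥(X ⊓ centralizer (V : Set G)) * 2 := Nat.mul_le_mul_left _ htwo
    _ = _ := by ring

/-- The free part of the action of a group of order nine. -/
theorem eq_of_fixed_le {A X Y : Subgroup G} (hA : Nat.card A = 9) (hAX : A ≤ normalizer (X : Set G))
    (hAY : A ≤ normalizer (Y : Set G)) (hYX : Y ≤ X)
    (hfix : ∀ a ∈ A, a ≠ 1 → ∀ d ∈ X, Commute a d → d ∈ Y) :
    9 ∣ Nat.card X - Nat.card Y := by
  have h := card_dvd_of_free A ((X : Set G) \ Y)
    (fun a ha d hd => ⟨conj_mem_of_mem_normalizer (hAX ha) hd.1, fun h' =>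
      hd.2 ((mem_normalizer_iff.1 (hAY ha) d).2 h')⟩)
    (fun a ha ha1 d hd he => hd.2 (hfix a ha ha1 d hd.1 (mul_inv_eq_iff_eq_mul.1 he)))
  rw [hA, Set.ncard_sdiff hYX] at h
  rwa [← Nat.card_coe_set_eq, ← Nat.card_coe_set_eq] at h

end CfsgLib.Char.MTwentyTwoOrder
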